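import Cfsg.Agent.N2.Ex.Cb.Cen

/-!
# N2, exceptional groups: refined bounds for centralisers (helper37)

* `card_G_le`, `card_cen_le` : `|G^F| ≤ |G^F|_p ^ 2 * max |T_w^F|` (any datum);
* `tord q u` : the order of the torus of type `u`, `card_TT`;
* `WP hp Z` : the Weyl group of the roots trivial on `Z`; `card_DZ_ref`, `cen_ref`;
* `conn` : the centraliser of an element of order prime to the order of the fundamental group is connected.
-/

set_option autoImplicit false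
set_option linter.unusedSectionVars false

namespace Cfsg.Agent.N2.Ex.Cb

section Dat

open Cfsg.Agent.DL Cfsg.Agent.DL.Asm Cfsg.Agent.DL.Uni Cfsg.Agent.Nodes.Reps Cfsg.Agent.SB.Exc

variable {p : ℕ} [Fact p.Prime] {k : Type} [Field k] [CharP k p] {Y : Type} [Group Y] {N : Type} [Fintype N]
  [DecidableEq N] {ρ : Y →* GL N k} {F : MulAut Y} {G : Subgroup Y} [IsAlgClosed k]

theorem card_G_le (D : Datum p ρ F G) {B : ℕ} (hB : ∀ w : D.W, (D.Wm w * D.Mx - 1).det.natAbs ≤ B) :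
    Nat.card (GF F G) ≤ pc p (GF F G) ^ 2 * B := by
  have S := sys_of Mk.mackey subBox D
  obtain ⟨St, hSt⟩ := St.stD D
  have h1 := S.count
  rw [finsum_mem_eq_finite_toFinset_sum _ S.finA] at h1
  rw [← h1]
  refine (Finset.sum_le_card_nsmul _ _ B fun T hT => ?_).trans ?_
  · obtain ⟨y, hy, rfl, h2⟩ := S.mem_tori.1 hT
    obtain ⟨w, hw⟩ := (D.stable_iff hy).1 h2
    rw [D.card_cj_TF hy hw]
    exact hB w
  · rw [smul_eq_mul]
    exact Nat.mul_le_mul_right _ (hSt.card_tori S).le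

theorem Wm_sub (D : Datum p ρ F G) {Z : Set Y} (hZ : Z ⊆ D.T) (hF : ∀ a ∈ D.Sz Z, D.g a ∈ D.Sz Z) {C : Subgroup Y}
    (hC : D.cen Z = C) (v : (D.sub hZ hF hC).W) : (D.sub hZ hF hC).Wm v = D.Wm (D.subW Z v) := by
  obtain ⟨m, hm, -⟩ := (D.sub hZ hF hC).exists_rp v
  exact mon_inj (k := k) fun c => D.τ_inj (((D.sub hZ hF hC).conj_τ hm c).symm.trans (D.conj_τ (D.rp_of_sub hZ hF hC hm) c))

theorem card_cen_le (D : Datum p ρ F G) {Z : Set Y} (hZ : Z ⊆ D.T) (hF : ∀ a ∈ D.Sz Z, D.g a ∈ D.Sz Z) {B : ℕ}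
    (hB : ∀ w ∈ Subgroup.closure (D.rf '' D.Sz Z), (D.Wm w * D.Mx - 1).det.natAbs ≤ B) :
    Nat.card (GF F (D.cen Z)) ≤ pc p (GF F (D.cen Z)) ^ 2 * B :=
  card_G_le (D.sub hZ hF rfl) fun v => by
    rw [Wm_sub]
    exact hB _ (D.range_subW (Z := Z) ▸ ⟨v, rfl⟩)

theorem pc_cen_le {n : ℕ} (h : Card.Fq p ρ F n) (D : Datum p ρ F G) {Z : Set Y} (hZ : Z ⊆ D.T)
    (hF : ∀ a ∈ D.Sz Z, D.g a ∈ D.Sz Z) : pc p (GF F (D.cen Z)) ^ 2 ≤ (p ^ n) ^ (D.Sz Z).ncard := by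
  have h2 : {a | (D.sub hZ hF rfl).Rt a}.ncard = (D.Sz Z).ncard := by
    rw [← D.io_roots]
    exact (Set.ncard_image_of_injective _ (D.io_injective _)).symm
  refine (Nat.pow_le_pow_left (h.pc_le (D.sub hZ hF rfl)) 2).trans ?_
  rw [← pow_mul, mul_comm, ← h2]
  exact Nat.pow_le_pow_right (pow_pos (Fact.out : p.Prime).pos _) (Card.two_mul_pos _)

end Dat

open CoxeterSystem Cfsg Cfsg.Lie Cfsg.Lie.ChevalleyDatum
open Cfsg.Agent.ChevalleyStructure Cfsg.Agent.ChevalleyStructure.Elts Cfsg.Agent.ChevalleyStructure.CoxeterGeom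
  Cfsg.Agent.ChevalleyStructure.CoxeterGeomTypes
open Cfsg.Agent.Tits.Roots Cfsg.Agent.Tits.Core Cfsg.Agent.Nodes Cfsg.Agent.Nodes.Reps Cfsg.Agent.Nodes.BNOf
  Cfsg.Agent.Nodes.RGDChev Cfsg.Agent.Nodes.Bruhat
open Cfsg.Agent.KFacts.RgdField Cfsg.Agent.KFacts.RgdChevCoord
open Cfsg.Agent.BpExc Cfsg.Agent.BpExc.TorCent Cfsg.Agent.BpExc.TorChev Cfsg.Agent.BpExc.Tow
  Cfsg.Agent.BpExc.TowChev Cfsg.Agent.BpExc.Fr Cfsg.Agent.BpExc.LangFr
open Cfsg.Agent.H469.Exc Cfsg.Agent.H795.SetCent Cfsg.Agent.H129.TorusChar Cfsg.Agent.DS.Ex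
open Cfsg.Agent.H931.KC Cfsg.Agent.DS.Nt Cfsg.Agent.H316.U6 Cfsg.Agent.SB.Exc Cfsg.Agent.Nodes.Coroot

variable {D : ChevalleyDatum} {l : ℕ} {M : CoxeterMatrix (Fin l)} {hp : IsType D l M} {p : ℕ} [Fact p.Prime]
  {e : ℕ} {σ : MulAut (YY D p)} {g : (Fin l → ℤ) ≃+ (Fin l → ℤ)}

/-- the matrix whose rows are the images of the simple roots -/
def mat {l : ℕ} (u : (Fin l → ℤ) → Fin l → ℤ) : Matrix (Fin l) (Fin l) ℤ := Matrix.of fun i => u (sr i)

theorem vecMul_mat (u : (Fin l → ℤ) →+ (Fin l → ℤ)) (x : Fin l → ℤ) : Matrix.vecMul x (mat u) = u x := by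
  funext j
  exact (eq_psi ((Pi.evalAddMonoidHom (fun _ => ℤ) j).comp u) x).symm

theorem mat_mul (u : (Fin l → ℤ) → Fin l → ℤ) (v : (Fin l → ℤ) →+ (Fin l → ℤ)) : mat u * mat v = mat (v ∘ u) := by
  ext i j
  exact congrFun (vecMul_mat v (u (sr i))) j

theorem mat_id : mat (id : (Fin l → ℤ) → Fin l → ℤ) = 1 := by
  ext i j
  rw [Matrix.one_apply]
  split_ifs with h
  · rw [h]
    exact sr_self j
  · exact sr_ne (Ne.symm h)

/-- the order of the torus of type `u` -/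
def tord {l : ℕ} (q : ℕ) (u : (Fin l → ℤ) → Fin l → ℤ) : ℕ :=
  ((q : ℤ) • (1 : Matrix (Fin l) (Fin l) ℤ) - mat u).det.natAbs

theorem tord_eq (q : ℕ) (u : (Fin l → ℤ) ≃+ (Fin l → ℤ)) : ((q : ℤ) • mat u.symm - 1).det.natAbs = tord q u := by
  have h1 : mat u * mat u.symm = 1 := by
    rw [← mat_id]
    exact (mat_mul u u.symm.toAddMonoidHom).trans (congrArg mat (funext u.symm_apply_apply))
  have h2 : (mat u.symm).det.natAbs = 1 := by
    have h3 := congrArg (fun A => A.det.natAbs) h1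
    simp only [Matrix.det_mul, Int.natAbs_mul, Matrix.det_one, Int.natAbs_one] at h3
    exact Nat.eq_one_of_mul_eq_one_left h3
  rw [tord, ← mul_one (Int.natAbs (Matrix.det (_ - mat u))), ← h2, ← Int.natAbs_mul, ← Matrix.det_mul, sub_mul,
    smul_mul_assoc, one_mul, h1]

variable (hp p) in
/-- the Weyl group of the roots trivial on `Z` -/
noncomputable def WP (Z : Set (YY D p)) : Subgroup M.Group :=
  Subgroup.closure {s | ∃ a ∈ Ps hp p Z, ∀ x,
    rep M.toCoxeterSystem hp.isCartan s x = x - cpr M.toCoxeterSystem hp.isCartan x a • a}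

theorem sub_mem_of_WP {Z : Set (YY D p)} {w : M.Group} (hw : w ∈ WP hp p Z) (x : Fin l → ℤ) :
    rep M.toCoxeterSystem hp.isCartan w x - x ∈ AddSubgroup.closure (Ps hp p Z) := by
  induction hw using Subgroup.closure_induction generalizing x with
  | mem s hs =>
    obtain ⟨a, ha, h⟩ := hs
    rw [h, sub_sub_cancel_left]
    exact neg_mem (zsmul_mem (AddSubgroup.subset_closure ha) _)
  | one =>
    rw [map_one, Module.End.one_apply, sub_self]
    exact zero_mem _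
  | mul v w _ _ hv hw =>
    rw [rep_mul_apply, ← sub_add_sub_cancel _ (rep M.toCoxeterSystem hp.isCartan w x)]
    exact add_mem (hv _) (hw _)
  | inv v _ hv =>
    have h := neg_mem (hv (rep M.toCoxeterSystem hp.isCartan v⁻¹ x))
    rwa [rep_apply_inv, neg_sub] at h

theorem det_chevFr (he : 0 < e) (hσ : IsFrob p e σ)
    (Φ : Fr M.toCoxeterSystem hp.isCartan (TT D (KK p)) (XX D l (KK p)) σ g) (w : M.Group) :
    ((DL.Ex.chevFr hp (locFin p) he hσ Φ).Wm w * (DL.Ex.chevFr hp (locFin p) he hσ Φ).Mx - 1).det.natAbs =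
      tord (p ^ e) fun x => rep M.toCoxeterSystem hp.isCartan w (g x) := by
  have h1 : (DL.Ex.chevFr hp (locFin p) he hσ Φ).Mx = ((p ^ e : ℕ) : ℤ) • mat g.symm := by
    rw [Nat.cast_pow]
    rfl
  have h2 : (DL.Ex.chevFr hp (locFin p) he hσ Φ).Wm w = mat (rep M.toCoxeterSystem hp.isCartan w⁻¹) := by
    ext i j
    have h3 := congrFun ((DL.Ex.chevFr hp (locFin p) he hσ Φ).wt_act' w (sr i)) j
    refine Eq.trans ?_ h3.symm
    exact (congrFun (Matrix.single_one_vecMul i _) j).symm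
  have h3 : mat (rep M.toCoxeterSystem hp.isCartan w⁻¹) * (((p ^ e : ℕ) : ℤ) • mat g.symm) =
      ((p ^ e : ℕ) : ℤ) • mat (g.trans (repAut M.toCoxeterSystem hp.isCartan w)).symm := by
    rw [mul_smul_comm]
    exact congrArg _ (mat_mul _ g.symm.toAddMonoidHom)
  refine Eq.trans ?_ (tord_eq (p ^ e) (g.trans (repAut M.toCoxeterSystem hp.isCartan w)))
  rw [← h3, ← h1, ← h2]
  rfl

/-- **The order of the finite torus.** -/
theorem card_TT (he : 0 < e) (hσ : IsFrob p e σ)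
    (Φ : Fr M.toCoxeterSystem hp.isCartan (TT D (KK p)) (XX D l (KK p)) σ g) :
    Nat.card ↥(DL.fix σ ⊓ TT D (KK p)) = tord (p ^ e) g := by
  have h1 := (DL.Ex.chevFr hp (locFin p) he hσ Φ).card_TF
  have h2 := det_chevFr (hp := hp) he hσ Φ 1
  have h3 := congrArg (fun A => (A * (DL.Ex.chevFr hp (locFin p) he hσ Φ).Mx - 1).det.natAbs)
    (DL.Ex.chevFr hp (locFin p) he hσ Φ).Wm_one
  simp only [one_mul] at h3
  rw [DL.GF, top_inf_eq, inf_comm] at h1
  refine h1.trans (h3.symm.trans (h2.trans (congrArg _ (funext fun x => ?_))))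
  rw [map_one, Module.End.one_apply]

theorem Sz_eq (he : 0 < e) (hσ : IsFrob p e σ)
    (Φ : Fr M.toCoxeterSystem hp.isCartan (TT D (KK p)) (XX D l (KK p)) σ g) {Z : Set (YY D p)}
    (hZ : Z ⊆ TT D (KK p)) : (DL.Ex.chevFr hp (locFin p) he hσ Φ).Sz Z = Ps hp p Z := by
  ext a
  refine Iff.trans ?_ (mem_Ps (hp := hp) (a := a) hZ).symm
  refine and_congr_right fun _ => forall_congr' fun z => forall_congr' fun hz => ?_
  obtain ⟨c, rfl⟩ := (DL.Ex.mem_TT_iff hp z).1 (hZ hz)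
  rw [DL.Ex.cX_tau hp c a]
  exact Eq.congr_left ((DL.Ex.chevFr hp (locFin p) he hσ Φ).χ_τ a c)

/-- **The order of the finite connected centraliser, refined.** -/
theorem card_DZ_ref (he : 0 < e) (hσ : IsFrob p e σ)
    (Φ : Fr M.toCoxeterSystem hp.isCartan (TT D (KK p)) (XX D l (KK p)) σ g) {Z : Set (YY D p)}
    (hZ : Z ⊆ TT D (KK p)) (hF : ∀ a ∈ Ps hp p Z, g a ∈ Ps hp p Z) {B : ℕ}
    (hB : ∀ w ∈ WP hp p Z, tord (p ^ e) (fun x => rep M.toCoxeterSystem hp.isCartan w (g x)) ≤ B) :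
    Nat.card ↥(DL.fix σ ⊓ DZ hp p Z) ≤ (p ^ e) ^ (Ps hp p Z).ncard * B := by
  let D₀ := DL.Ex.chevFr hp (locFin p) he hσ Φ
  have hS : D₀.Sz Z = Ps hp p Z := Sz_eq he hσ Φ hZ
  have hC : D₀.cen Z = DZ hp p Z := by
    have h0 : D₀.cen Z = D₀.T ⊔ D₀.S (Ps hp p Z) := congrArg (fun A => D₀.T ⊔ D₀.S A) hS
    exact h0.trans (sup_comm _ _)
  have hF' : ∀ a ∈ D₀.Sz Z, D₀.g a ∈ D₀.Sz Z := by
    rw [hS]
    exact hF
  have h1 := card_cen_le D₀ hZ hF' (B := B) fun w hw => by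
    refine (det_chevFr (hp := hp) he hσ Φ w).trans_le (hB w (Subgroup.closure_mono ?_ hw))
    rintro _ ⟨a, ha, rfl⟩
    exact ⟨a, hS ▸ ha, D₀.act_rf ha.1⟩
  have h2 := pc_cen_le (CI.fq he hσ) D₀ hZ hF'
  have h3 : (D₀.Sz Z).ncard = (Ps hp p Z).ncard := congrArg Set.ncard hS
  rw [h3] at h2
  replace h1 := h1.trans (Nat.mul_le_mul_right _ h2)
  rwa [hC, DL.GF, inf_comm] at h1

theorem g_mem_Ps (hσ : IsFrob p e σ) (Φ : Fr M.toCoxeterSystem hp.isCartan (TT D (KK p)) (XX D l (KK p)) σ g)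
    {Z : Set (YY D p)} (hZ : Z ⊆ TT D (KK p)) (h : ∀ z ∈ Z, σ z = z) : ∀ a ∈ Ps hp p Z, g a ∈ Ps hp p Z := fun a ha => by
  rw [mem_Ps hZ] at ha ⊢
  refine ⟨(Φ.root a).2 ha.1, fun t ht => ?_⟩
  rw [← h t ht, cX_sigma hp M.toCoxeterSystem hσ Φ (hZ ht), ha.2 t ht, one_pow]

/-- **The centraliser of an element of the torus, refined.** -/
theorem cen_ref (he : 0 < e) (hσ : IsFrob p e σ)
    (Φ : Fr M.toCoxeterSystem hp.isCartan (TT D (KK p)) (XX D l (KK p)) σ g) {t : YY D p} (ht : t ∈ TT D (KK p))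
    (hσt : σ t = t) {n : ℕ} (hn : n.Coprime p) (htn : t ^ n = 1) {B : ℕ}
    (hB : ∀ w ∈ WP hp p {t}, tord (p ^ e) (fun x => rep M.toCoxeterSystem hp.isCartan w (g x)) ≤ B) :
    Nat.card ↥(DL.fix σ ⊓ Subgroup.centralizer {t}) ≤ nmk D l * ((p ^ e) ^ (Ps hp p {t}).ncard * B) :=
  (card_cen (hp := hp) hn ht htn _).trans (Nat.mul_le_mul_left _ (card_DZ_ref he hσ Φ (Set.singleton_subset_iff.2 ht)
    (g_mem_Ps hσ Φ (Set.singleton_subset_iff.2 ht) fun z hz => by rw [hz, hσt]) hB))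

/-! ### connectedness -/

/-- the minuscule coweights are detected modulo `d` -/
def CZ (D : ChevalleyDatum) (l d : ℕ) : Prop :=
  ∀ j, hr D l j = 1 → ∃ z : Fin l → ℤ, (∀ i, (d : ℤ) ∣ pairing (cartanOf D l) i z) ∧ ¬ (d : ℤ) ∣ z j

theorem cz_of {D : ChevalleyDatum} {l d : ℕ} (L : List (Fin l → ℤ))
    (h : ∀ j, hr D l j = 1 → ∃ z ∈ L, (∀ i, (d : ℤ) ∣ pairing (cartanOf D l) i z) ∧ ¬ (d : ℤ) ∣ z j) : CZ D l d :=
  fun j hj => let ⟨z, _, h1⟩ := h j hj; ⟨z, h1⟩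

theorem cz_G2 : CZ chevG2 2 1 := cz_of [] (by decide +kernel)
theorem cz_F4 : CZ chevF4 4 1 := cz_of [] (by decide +kernel)
theorem cz_E8 : CZ chevE8 8 1 := cz_of [] (by decide +kernel)
theorem cz_E6 : CZ chevE6 6 3 := cz_of [![1, 0, -1, 0, 1, -1]] (by decide +kernel)
theorem cz_E7 : CZ chevE7 7 2 := cz_of [![0, 1, 0, 0, 1, 0, 1]] (by decide +kernel)
theorem cz_D4 : CZ chevD4 4 2 := cz_of [![1, 0, 1, 0], ![1, 0, 0, 1]] (by decide +kernel)

theorem cz_typ (hp : IsType D l M) (hD : Typ D) : CZ D l (dM l) := by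
  have hl := typ_l hp
  rcases hD with rfl | rfl | rfl | rfl
  · obtain rfl := hl.1 rfl
    exact cz_F4
  · obtain rfl := hl.2.1 rfl
    exact cz_E6
  · obtain rfl := hl.2.2.1 rfl
    exact cz_E7
  · obtain rfl := hl.2.2.2 rfl
    exact cz_E8

theorem dvd_rep_sub {d : ℤ} {z : Fin l → ℤ} (hz : ∀ i, d ∣ pairing (cartanOf D l) i z) (w : M.Group) (j : Fin l) :
    d ∣ rep M.toCoxeterSystem hp.isCartan w z j - z j := by
  induction w using M.toCoxeterSystem.simple_induction_right generalizing j with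
  | one => rw [map_one, Module.End.one_apply, sub_self]; exact dvd_zero _
  | mul_simple_right w i ih =>
    obtain ⟨m, hm⟩ := hz i
    rw [rep_mul_apply, rep_simple_eq, map_sub, map_zsmul, Pi.sub_apply, Pi.smul_apply, smul_eq_mul, hm, sub_right_comm,
      mul_assoc]
    exact dvd_sub (ih j) (Dvd.intro _ rfl)

theorem pp_eq_one [Finite M.Group] {d n : ℕ} (H : CZ D l d) (hn : n.Coprime p) (hd : d.Coprime n) {t : YY D p}
    (ht : t ∈ TT D (KK p)) (htn : t ^ n = 1) {y : M.Group} (hy : y ∈ PP M.toCoxeterSystem hp.isCartan (ch hp) t) :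
    y = 1 := by
  by_contra h1
  have : NeZero (n : KK p) := ⟨cast_ne hn⟩
  obtain ⟨ζ, hζ⟩ := HasEnoughRootsOfUnity.exists_primitiveRoot (KK p) n
  obtain ⟨w, v, c, c0, π, K, -, -, h2, h3, h4⟩ :=
    pp_diag (Nat.pos_of_ne_zero (ne_zero_of_coprime hn)) hζ ht htn hy h1
  obtain ⟨j, hj⟩ : ∃ j, π (some j) = none := by
    rcases h : π.symm none with _ | j
    · exact absurd ((Equiv.symm_apply_eq π).1 h).symm h4
    · exact ⟨j, ((Equiv.symm_apply_eq π).1 h).symm⟩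
  have h5 : hr D l j = 1 := by
    have h6 := mk_perm hp h2 (some j)
    rw [hj] at h6
    exact h6.symm
  obtain ⟨z, h6, h7⟩ := H j h5
  have h8 : ∀ i, bb c (rep M.toCoxeterSystem hp.isCartan v (sr i)) - c i = if i = j then -(n : ℤ) else 0 := fun i => by
    have h9 := h2 (some i)
    have h10 := h3 (some i)
    change rep M.toCoxeterSystem hp.isCartan v (sr i) = _ at h9
    change _ = c i at h10
    rw [h9]
    split_ifs with h
    · rw [h, hj] at h10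
      change c0 = _ at h10
      rw [h, hj, al, map_neg, bb_hr K, h10]
      ring
    · rcases h' : π (some i) with _ | m
      · exact absurd (Option.some_injective _ (π.injective (h'.trans hj.symm))) h
      · rw [h'] at h10
        change c m = _ at h10
        rw [al, ← h10]
        exact sub_eq_zero.2 (psi_sr _ m)
  have h9 : bb c (rep M.toCoxeterSystem hp.isCartan v z) - bb c z = -(n * z j) := by
    have h10 := eq_psi ((bb c).comp (rep M.toCoxeterSystem hp.isCartan v).toAddMonoidHom) z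
    change bb c (rep M.toCoxeterSystem hp.isCartan v z) = ∑ i, z i * bb c (rep M.toCoxeterSystem hp.isCartan v (sr i)) at h10
    have h11 : bb c z = ∑ i, z i * (c i : ℤ) := rfl
    rw [h10, h11, ← Finset.sum_sub_distrib]
    simp only [← mul_sub, h8, mul_ite, mul_zero, Finset.sum_ite_eq', Finset.mem_univ, if_true]
    ring
  have h10 : (d : ℤ) ∣ n * z j := by
    rw [← dvd_neg, ← h9, ← map_sub]
    show _ ∣ ∑ i : Fin l, _
    exact Finset.dvd_sum fun i _ => Dvd.dvd.mul_right (dvd_rep_sub (hp := hp) h6 v i) _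
  exact h7 ((Nat.isCoprime_iff_coprime.2 hd).dvd_of_dvd_mul_left h10)

/-- **Connected centralisers.** -/
theorem conn {d n : ℕ} (H : CZ D l d) (hn : n.Coprime p) (hd : d.Coprime n) {t : YY D p} (ht : t ∈ TT D (KK p))
    (htn : t ^ n = 1) : Subgroup.centralizer {t} = DZ hp p {t} := by
  have := finW hp
  refine CI.cen_eq ht fun c hc => ?_
  obtain ⟨m, hm, w, hw, k, h1, -, rfl⟩ := form hp (Set.finite_singleton t) (Set.singleton_subset_iff.2 ht) (c := c)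
    fun s hs => by rw [hs, hc]
  rw [pp_eq_one H hn hd ht htn (mem_PP_of_PPZ hw)] at h1
  exact mul_mem (Mz_le_DZ hm) (T_le_DZ h1.mem_T)

theorem cen_ref_conn {d : ℕ} (H : CZ D l d) (he : 0 < e) (hσ : IsFrob p e σ)
    (Φ : Fr M.toCoxeterSystem hp.isCartan (TT D (KK p)) (XX D l (KK p)) σ g) {t : YY D p} (ht : t ∈ TT D (KK p))
    (hσt : σ t = t) {n : ℕ} (hn : n.Coprime p) (hd : d.Coprime n) (htn : t ^ n = 1) {B : ℕ}
    (hB : ∀ w ∈ WP hp p {t}, tord (p ^ e) (fun x => rep M.toCoxeterSystem hp.isCartan w (g x)) ≤ B) :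
    Nat.card ↥(DL.fix σ ⊓ Subgroup.centralizer {t}) ≤ (p ^ e) ^ (Ps hp p {t}).ncard * B := by
  rw [conn (hp := hp) H hn hd ht htn]
  exact card_DZ_ref he hσ Φ (Set.singleton_subset_iff.2 ht)
    (g_mem_Ps hσ Φ (Set.singleton_subset_iff.2 ht) fun z hz => by rw [hz, hσt]) hB

variable (hp) in
/-- **The centraliser of a semisimple element of order prime to the order of the fundamental group.** -/
theorem cen_le_conn {d : ℕ} (H : CZ D l d) (he : 0 < e) (hσ : IsFrob p e σ)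
    (Φ : Fr M.toCoxeterSystem hp.isCartan (TT D (KK p)) (XX D l (KK p)) σ g) {y : YY D p} (hy : σ y = y) {n : ℕ}
    (hn : n.Coprime p) (hd : d.Coprime n) (hyn : y ^ n = 1) {k : ℕ} (hk : dd p y ≤ l + k) :
    Nat.card ↥(DL.fix σ ⊓ Subgroup.centralizer {y}) ≤ (p ^ e) ^ k * (p ^ e + 1) ^ l := by
  obtain ⟨x, hx⟩ := exists_tor hp hn hyn
  obtain ⟨σ', w, b1, b2, b3, b4⟩ := CI.exists_red (hp := hp) he hσ Φ hy hx
  rw [b4, conn (hp := hp) H hn hd hx (by rw [conj_pow, hyn, mul_one, mul_inv_cancel])]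
  exact CI.card_DZ he b1 b2 hx b3 (by rwa [dd_conj])

theorem cn_le_conn {d : ℕ} (H : CZ D l d) {q : ℕ} {K : Type*} [Group K] (m : MData hp p q K) {a : K}
    (ha : (orderOf a).Coprime p) (hd : d.Coprime (orderOf a)) {k : ℕ} (hk : dd p (m.ι a) ≤ l + k) :
    cn a ≤ q ^ k * (q + 1) ^ l := by
  have h1 := cen_le_conn hp H m.he m.frob m.fr (m.fix a) ha hd (by rw [← map_pow, pow_orderOf_eq_one, map_one]) hk
  rw [m.hq] at h1
  exact (cn_le_card m.ι m.inj m.fix m.fin a).trans h1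

end Cfsg.Agent.N2.Ex.Cb
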