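import Cfsg.Agent.SB.Exc.CI.Red
import Cfsg.Agent.N2.Tool

/-!
# N2, exceptional groups: centralisers of semisimple elements of any order (helper37)

* `cen_le` : `|C_{Y^σ}(y)| ≤ nmk * q ^ (dd y - l) * (q + 1) ^ l` for `y` of order prime to `p`;
* `cn_le` : the same for the finite group of an `MData`.
-/

set_option autoImplicit false
set_option linter.unusedSectionVars false

namespace Cfsg.Agent.N2.Ex.Cb

open CoxeterSystem Cfsg Cfsg.Lie Cfsg.Lie.ChevalleyDatum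
open Cfsg.Agent.ChevalleyStructure Cfsg.Agent.ChevalleyStructure.Elts Cfsg.Agent.ChevalleyStructure.CoxeterGeom
  Cfsg.Agent.ChevalleyStructure.CoxeterGeomTypes
open Cfsg.Agent.Tits.Roots Cfsg.Agent.Tits.Core Cfsg.Agent.Nodes Cfsg.Agent.Nodes.Reps Cfsg.Agent.Nodes.BNOf
  Cfsg.Agent.Nodes.RGDChev Cfsg.Agent.Nodes.Bruhat
open Cfsg.Agent.KFacts.RgdField Cfsg.Agent.KFacts.RgdChevCoord
open Cfsg.Agent.BpExc Cfsg.Agent.BpExc.TorCent Cfsg.Agent.BpExc.TorChev Cfsg.Agent.BpExc.Tow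
  Cfsg.Agent.BpExc.TowChev Cfsg.Agent.BpExc.Fr Cfsg.Agent.BpExc.LangFr
open Cfsg.Agent.H469.Exc Cfsg.Agent.H795.SetCent Cfsg.Agent.H129.TorusChar Cfsg.Agent.DS.Ex
open Cfsg.Agent.H931.KC Cfsg.Agent.DS.Nt Cfsg.Agent.H316.U6 Cfsg.Agent.SB.Exc

variable {D : ChevalleyDatum} {l : ℕ} {M : CoxeterMatrix (Fin l)} {hp : IsType D l M} {p : ℕ} [Fact p.Prime]
  {e : ℕ} {σ : MulAut (YY D p)} {g : (Fin l → ℤ) ≃+ (Fin l → ℤ)}

theorem cast_ne {n : ℕ} (hn : n.Coprime p) : (n : KK p) ≠ 0 := by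
  rw [Ne, CharP.cast_eq_zero_iff (KK p) p]
  exact (Nat.Prime.coprime_iff_not_dvd Fact.out).1 hn.symm

theorem ne_zero_of_coprime {n : ℕ} (hn : n.Coprime p) : n ≠ 0 := by
  rintro rfl
  exact (Fact.out : p.Prime).ne_one (Nat.coprime_zero_left p |>.1 hn)

variable (hp) in
include hp in
/-- elements of order prime to `p` are toral -/
theorem exists_tor {y : YY D p} {n : ℕ} (hn : n.Coprime p) (hy : y ^ n = 1) :
    ∃ x : YY D p, x * y * x⁻¹ ∈ TT D (KK p) :=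
  H944.TorAnyChev.exists_conj_mem_TT hp p (TorAll.hAlg_of_isAlgebraic p _) (ne_zero_of_coprime hn) hn hy

/-- **The index of the connected centralizer.** -/
theorem card_cen {n : ℕ} (hn : n.Coprime p) {t : YY D p} (ht : t ∈ TT D (KK p)) (htr : t ^ n = 1)
    (H : Subgroup (YY D p)) : Nat.card ↥(H ⊓ Subgroup.centralizer {t}) ≤ nmk D l * Nat.card ↥(H ⊓ DZ hp p {t}) := by
  have := finW hp
  have hZ : ({t} : Set (YY D p)) ⊆ TT D (KK p) := Set.singleton_subset_iff.2 ht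
  have h1 := card_PP_le hp (cast_ne hn) ht htr
  rw [card_mk] at h1
  have hle : H ⊓ DZ hp p {t} ≤ H ⊓ Subgroup.centralizer {t} :=
    inf_le_inf_left _ fun c hc => Subgroup.mem_centralizer_singleton_iff.2 (DZ_comm hZ hc rfl)
  have hform : ∀ c : ↥(H ⊓ Subgroup.centralizer {t}), ∃ w : ↥(PP M.toCoxeterSystem hp.isCartan (ch hp) t),
      ∃ m ∈ Mz hp p {t}, ∃ k, RP hp p w k ∧ (∀ s ∈ ({t} : Set (YY D p)), k * s = s * k) ∧ (c : YY D p) = m * k := fun c => by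
    obtain ⟨m, hm, w, hw, k, h2, h3, h4⟩ := form hp (Set.finite_singleton t) hZ (c := (c : YY D p)) fun s hs => by
      rw [hs]
      exact Subgroup.mem_centralizer_singleton_iff.1 c.2.2
    exact ⟨⟨w, mem_PP_of_PPZ hw⟩, m, hm, k, h2, h3, h4⟩
  choose f hf using hform
  have h2 := Card.card_le_mul ((H ⊓ DZ hp p {t}).subgroupOf (H ⊓ Subgroup.centralizer {t})) f fun a b hab => by
    obtain ⟨m, hm, k, h3, h4, h5⟩ := hf a
    obtain ⟨m', hm', k', h3', -, h5'⟩ := hf b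
    refine ⟨(a⁻¹ * b).2.1, ?_⟩
    rw [← hab] at h3'
    have h6 := h3.inv.mul h3'
    rw [inv_mul_cancel] at h6
    have h7 := h3.inv.conj_Mz hZ (fun s hs => by
      rw [inv_mul_eq_iff_eq_mul, ← mul_assoc, h4 s hs, mul_inv_cancel_right]) (mul_mem (inv_mem hm) hm')
    have e : ((a⁻¹ * b : ↥(H ⊓ Subgroup.centralizer {t})) : YY D p) = k⁻¹ * (m⁻¹ * m') * k⁻¹⁻¹ * (k⁻¹ * k') := by
      rw [Subgroup.coe_mul, Subgroup.coe_inv, h5, h5']
      group
    show ((a⁻¹ * b : ↥(H ⊓ Subgroup.centralizer {t})) : YY D p) ∈ DZ hp p {t}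
    rw [e]
    exact mul_mem (Mz_le_DZ h7) (T_le_DZ h6.mem_T)
  rw [Nat.card_congr (Subgroup.subgroupOfEquivOfLe hle).toEquiv] at h2
  exact h2.trans (Nat.mul_le_mul_right _ h1)

variable (hp) in
include hp in
theorem le_dd {y : YY D p} {n : ℕ} (hn : n.Coprime p) (hy : y ^ n = 1) : l ≤ dd p y := by
  obtain ⟨x, hx⟩ := exists_tor hp hn hy
  rw [← dd_conj x y, ← CI.ncard_Ps (hp := hp) hx]
  exact Nat.le_add_right _ _

variable (hp) in
/-- **The centraliser of a semisimple element.** -/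
theorem cen_le' (he : 0 < e) (hσ : IsFrob p e σ)
    (Φ : Fr M.toCoxeterSystem hp.isCartan (TT D (KK p)) (XX D l (KK p)) σ g) {y : YY D p} (hy : σ y = y) {n : ℕ}
    (hn : n.Coprime p) (hyn : y ^ n = 1) {k : ℕ} (hk : dd p y ≤ l + k) :
    Nat.card ↥(DL.fix σ ⊓ Subgroup.centralizer {y}) ≤ nmk D l * ((p ^ e) ^ k * (p ^ e + 1) ^ l) := by
  obtain ⟨x, hx⟩ := exists_tor hp hn hyn
  obtain ⟨σ', w, b1, b2, b3, b4⟩ := CI.exists_red (hp := hp) he hσ Φ hy hx
  rw [b4]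
  refine (card_cen (hp := hp) hn hx (by rw [conj_pow, hyn, mul_one, mul_inv_cancel]) _).trans
    (Nat.mul_le_mul_left _ (CI.card_DZ he b1 b2 hx b3 ?_))
  rwa [dd_conj]

variable (hp) in
theorem cen_le (he : 0 < e) (hσ : IsFrob p e σ)
    (Φ : Fr M.toCoxeterSystem hp.isCartan (TT D (KK p)) (XX D l (KK p)) σ g) {y : YY D p} (hy : σ y = y)
    (hn : (orderOf y).Coprime p) :
    Nat.card ↥(DL.fix σ ⊓ Subgroup.centralizer {y}) ≤ nmk D l * ((p ^ e) ^ (dd p y - l) * (p ^ e + 1) ^ l) :=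
  cen_le' hp he hσ Φ hy hn (pow_orderOf_eq_one y) (by omega)

/-- the centraliser in a finite group embedded in `Y ^ σ` -/
theorem cn_le_card {K : Type*} [Group K] (ι : K →* YY D p) (hι : Function.Injective ι) (hf : ∀ a, σ (ι a) = ι a)
    (hfin : Finite ↥(fixedSubgroup σ)) (a : K) :
    cn a ≤ Nat.card ↥(DL.fix σ ⊓ Subgroup.centralizer {ι a}) := by
  have : Finite ↥(DL.fix σ ⊓ Subgroup.centralizer {ι a}) :=
    Finite.of_injective (fun z : ↥(DL.fix σ ⊓ Subgroup.centralizer {ι a}) => (⟨z.1, z.2.1⟩ : ↥(fixedSubgroup σ)))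
      fun z z' h => Subtype.ext (congrArg (fun w : ↥(fixedSubgroup σ) => (w : YY D p)) h)
  refine Nat.card_le_card_of_injective (fun z => ⟨ι z.1, hf _, Subgroup.mem_centralizer_singleton_iff.2 ?_⟩) ?_
  · rw [← map_mul, ← map_mul, Subgroup.mem_centralizer_singleton_iff.1 z.2]
  · exact fun z z' h => Subtype.ext (hι (congrArg Subtype.val h))

/-- **The centraliser of a `p'`-element of the finite group.** -/
theorem cn_le' {q : ℕ} {K : Type*} [Group K] (m : MData hp p q K) {a : K} (ha : (orderOf a).Coprime p) {k : ℕ}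
    (hk : dd p (m.ι a) ≤ l + k) : cn a ≤ nmk D l * (q ^ k * (q + 1) ^ l) := by
  have h1 := cen_le' hp m.he m.frob m.fr (m.fix a) ha (by rw [← map_pow, pow_orderOf_eq_one, map_one]) hk
  rw [m.hq] at h1
  exact (cn_le_card m.ι m.inj m.fix m.fin a).trans h1

theorem cn_le {q : ℕ} {K : Type*} [Group K] (m : MData hp p q K) {a : K} (ha : (orderOf a).Coprime p) :
    cn a ≤ nmk D l * (q ^ (dd p (m.ι a) - l) * (q + 1) ^ l) := cn_le' m ha (by omega)

end Cfsg.Agent.N2.Ex.Cb
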