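import Cfsg.Agent.N2.Ex.Cb.Shp
import Cfsg.Agent.N2.Ex.Cb.Cen

/-!
# N2, exceptional groups: the `m`-test for semisimple elements of prime order (helper37)

`y ∈ Y` of prime order `r ≠ p`.  `HH hp y r ≤ (ZMod r)ˣ` is the group of the exponents `k` such that an automorphism of the
root system raises the character of (a conjugate in the torus of) `y` to the power `k`; `hm hp y r` is its order.

* `ord_q_dvd`, `ord_conj_dvd`, `two_dvd_hm`, `mem_HH_of_aut`, `relIndex_dvd` : divisors of `hm`;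
* `exists_pair` : `hm` and `dd p y` are given by the table.
-/

set_option autoImplicit false
set_option linter.unusedSectionVars false

namespace Cfsg.Agent.N2.Ex.Cb

open CoxeterSystem Cfsg Cfsg.Lie Cfsg.Lie.ChevalleyDatum
open Cfsg.Agent.ChevalleyStructure Cfsg.Agent.ChevalleyStructure.Elts Cfsg.Agent.ChevalleyStructure.CoxeterGeom
  Cfsg.Agent.ChevalleyStructure.CoxeterGeomTypes
open Cfsg.Agent.Tits.Roots Cfsg.Agent.Tits.Core Cfsg.Agent.Nodes Cfsg.Agent.Nodes.Reps Cfsg.Agent.Nodes.BNOf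
  Cfsg.Agent.Nodes.RGDChev Cfsg.Agent.Nodes.Bruhat
open Cfsg.Agent.KFacts.RgdField Cfsg.Agent.KFacts.RgdChevCoord
open Cfsg.Agent.BpExc Cfsg.Agent.BpExc.TorCent Cfsg.Agent.BpExc.TorChev Cfsg.Agent.BpExc.Tow
  Cfsg.Agent.BpExc.TowChev Cfsg.Agent.BpExc.Fr Cfsg.Agent.BpExc.LangFr
open Cfsg.Agent.H469.Exc Cfsg.Agent.H795.SetCent Cfsg.Agent.H129.TorusChar Cfsg.Agent.DS.Ex
open Cfsg.Agent.H931.KC Cfsg.Agent.DS.Nt Cfsg.Agent.H316.U6 Cfsg.Agent.SB.Exc

variable {D : ChevalleyDatum} {l : ℕ} {M : CoxeterMatrix (Fin l)} (hp : IsType D l M) {p : ℕ} [Fact p.Prime]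

/-- an automorphism of the root system raises the character of `y` to the power `a` -/
def Rl (y : YY D p) (a : ℕ) : Prop :=
  ∀ x : YY D p, x * y * x⁻¹ ∈ TT D (KK p) → ∃ u : (Fin l → ℤ) ≃+ (Fin l → ℤ),
    (∀ b, IsRoot M.toCoxeterSystem hp.isCartan (u b) ↔ IsRoot M.toCoxeterSystem hp.isCartan b) ∧
      ∀ b, cX hp (x * y * x⁻¹) (u b) = cX hp (x * y * x⁻¹) b ^ a

variable {hp}

theorem Rl.one (y : YY D p) : Rl hp y 1 := fun _ _ => ⟨AddEquiv.refl _, fun _ => Iff.rfl, fun _ => (pow_one _).symm⟩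

theorem Rl.mul {y : YY D p} {a b : ℕ} (ha : Rl hp y a) (hb : Rl hp y b) : Rl hp y (a * b) := fun x hx => by
  obtain ⟨u, h1, h2⟩ := ha x hx
  obtain ⟨v, h3, h4⟩ := hb x hx
  exact ⟨u.trans v, fun c => (h3 _).trans (h1 c), fun c => by rw [AddEquiv.trans_apply, h4, h2, pow_mul]⟩

theorem Rl.pow {y : YY D p} {a : ℕ} (ha : Rl hp y a) (n : ℕ) : Rl hp y (a ^ n) := by
  induction n with
  | zero => exact Rl.one y
  | succ n ih => rw [pow_succ]; exact ih.mul ha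

variable (hp) in
/-- the group of the realised exponents -/
def HH (y : YY D p) (r : ℕ) [Fact r.Prime] : Subgroup (ZMod r)ˣ where
  carrier := {k | ∃ a : ℕ, (a : ZMod r) = k ∧ Rl hp y a}
  one_mem' := ⟨1, Nat.cast_one, Rl.one y⟩
  mul_mem' := by
    rintro k k' ⟨a, h1, h2⟩ ⟨b, h3, h4⟩
    exact ⟨a * b, by rw [Nat.cast_mul, h1, h3, Units.val_mul], h2.mul h4⟩
  inv_mem' := by
    rintro k ⟨a, h1, h2⟩
    refine ⟨a ^ (orderOf k - 1), ?_, h2.pow _⟩
    rw [Nat.cast_pow, h1, ← Units.val_pow_eq_pow_val, eq_comm]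
    congr 1
    rw [inv_eq_iff_mul_eq_one, ← pow_succ', Nat.sub_add_cancel (orderOf_pos k), pow_orderOf_eq_one]

variable (hp) in
/-- the order of the group of the realised exponents -/
noncomputable def hm (y : YY D p) (r : ℕ) [Fact r.Prime] : ℕ := Nat.card (HH hp y r)

variable {r : ℕ} [Fact r.Prime] {y : YY D p}

theorem hm_pos : 0 < hm hp y r := Nat.card_pos

theorem hm_dvd : hm hp y r ∣ r - 1 := by
  have h := (HH hp y r).card_subgroup_dvd_card
  rwa [Nat.card_eq_fintype_card (α := (ZMod r)ˣ), ZMod.card_units r] at h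

theorem dvd_hm {k : (ZMod r)ˣ} (hk : k ∈ HH hp y r) : orderOf (k : ZMod r) ∣ hm hp y r := by
  rw [orderOf_units]
  exact (HH hp y r).orderOf_dvd_natCard hk

theorem cX_pow_r (hy : y ^ r = 1) {x : YY D p} (hx : x * y * x⁻¹ ∈ TT D (KK p)) (b : Fin l → ℤ) :
    cX hp (x * y * x⁻¹) b ^ r = 1 := by
  rw [← cX_pow hp hx, conj_pow, hy, mul_one, mul_inv_cancel, cX_one]

theorem pow_congr {F : Type*} [Monoid F] {c : F} (hc : c ^ r = 1) {a b : ℕ} (h : (a : ZMod r) = b) : c ^ a = c ^ b := by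
  rw [pow_eq_pow_mod a hc, pow_eq_pow_mod b hc, (ZMod.natCast_eq_natCast_iff' a b r).1 h]

theorem cast_pow_ne (hrp : r ≠ p) (n : ℕ) : ((p ^ n : ℕ) : ZMod r) ≠ 0 := fun h =>
  hrp ((Nat.prime_dvd_prime_iff_eq Fact.out Fact.out).1
    ((Fact.out : r.Prime).dvd_of_dvd_pow ((ZMod.natCast_eq_zero_iff _ _).1 h)))

/-- **Automorphisms normalising the class of `⟨y⟩`.** -/
theorem mem_HH_of_aut (hrp : r ≠ p) (hy : y ^ r = 1) {β : MulAut (YY D p)} {n : ℕ} (hβ : IsFrob p n β) {z : YY D p}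
    {g : (Fin l → ℤ) ≃+ (Fin l → ℤ)}
    (Φ : Fr M.toCoxeterSystem hp.isCartan (TT D (KK p)) (XX D l (KK p)) (MulAut.conj z * β) g) {j : ℕ}
    (h : IsConj (β y) (y ^ j)) {k : (ZMod r)ˣ} (hk : (k : ZMod r) * j = (p ^ n : ℕ)) : k ∈ HH hp y r := by
  refine ⟨(k : ZMod r).val, ZMod.natCast_zmod_val _, fun x hx => ?_⟩
  have h1 : (MulAut.conj z * β) (x * y * x⁻¹) ∈ TT D (KK p) := (Φ.tor _).2 hx
  obtain ⟨c, hc⟩ := isConj_iff.1 h
  obtain ⟨-, -, w, v, hv, h2, -⟩ := form₂ hp (ι := Unit) (s := fun _ => (MulAut.conj z * β) (x * y * x⁻¹))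
    (t := fun _ => (x * y * x⁻¹) ^ j) (fun _ => h1) (fun _ => pow_mem hx j) (c := x * c * (β x)⁻¹ * z⁻¹) fun _ => by
      rw [conj_pow, ← hc, MulAut.mul_apply, MulAut.conj_apply, map_mul, map_mul, map_inv]
      group
  have h3 : v * (MulAut.conj z * β) (x * y * x⁻¹) * v⁻¹ = (x * y * x⁻¹) ^ j := by
    rw [h2 (), mul_inv_cancel_right]
  refine ⟨g.trans (repAut M.toCoxeterSystem hp.isCartan w), fun b => ?_, fun b => ?_⟩
  · rw [AddEquiv.trans_apply, hv.fr.root, Φ.root]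
  · have h4 := hv.cX h1 (g b)
    rw [h3, cX_sigma hp M.toCoxeterSystem (hβ.conj_mul z) Φ hx, cX_pow hp hx] at h4
    have h6 : (j : ZMod r) ≠ 0 := fun h6 => cast_pow_ne hrp n (by rw [← hk, h6, mul_zero])
    have h7 : ((j * ((j : ZMod r)⁻¹).val : ℕ) : ZMod r) = (1 : ℕ) := by
      rw [Nat.cast_mul, ZMod.natCast_zmod_val, mul_inv_cancel₀ h6, Nat.cast_one]
    rw [AddEquiv.trans_apply, repAut_apply, ← pow_one (cX hp (x * y * x⁻¹) (rep M.toCoxeterSystem hp.isCartan w (g b))),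
      ← pow_congr (cX_pow_r hy hx _) h7, pow_mul, h4, ← pow_mul]
    refine pow_congr (cX_pow_r hy hx _) ?_
    rw [Nat.cast_mul, ZMod.natCast_zmod_val, ZMod.natCast_zmod_val, ← hk, mul_inv_cancel_right₀ h6]

theorem mem_HH_of_conj (hrp : r ≠ p) (hy : y ^ r = 1) {j : ℕ} (h : IsConj (y ^ j) y) {k : (ZMod r)ˣ}
    (hk : (k : ZMod r) = j) : k ∈ HH hp y r := by
  rw [← inv_mem_iff]
  refine mem_HH_of_aut hrp hy (β := 1) IsFrob.one (z := 1) (g := AddEquiv.refl _) (by rw [map_one, mul_one]; exact Fr.one)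
    (j := j) h.symm ?_
  rw [← hk, Units.inv_mul, pow_zero, Nat.cast_one]

/-- the automizer -/
theorem ord_conj_dvd (hrp : r ≠ p) (hy : orderOf y = r) {j : ℕ} (h : IsConj y (y ^ j)) :
    orderOf (j : ZMod r) ∣ hm hp y r := by
  have hy' : y ^ r = 1 := hy ▸ pow_orderOf_eq_one y
  have hj : (j : ZMod r) ≠ 0 := fun h0 => by
    rw [ZMod.natCast_eq_zero_iff, ← hy, orderOf_dvd_iff_pow_eq_one] at h0
    rw [h0, isConj_one_left] at h
    rw [h, orderOf_one] at hy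
    exact (Fact.out : r.Prime).ne_one hy.symm
  exact dvd_hm (k := Units.mk0 _ hj) (mem_HH_of_conj hrp hy' h.symm rfl)

/-- the order of `q` -/
theorem ord_q_dvd (hrp : r ≠ p) (hy : y ^ r = 1) {e : ℕ} {σ : MulAut (YY D p)} {g : (Fin l → ℤ) ≃+ (Fin l → ℤ)}
    (hσ : IsFrob p e σ) (Φ : Fr M.toCoxeterSystem hp.isCartan (TT D (KK p)) (XX D l (KK p)) σ g) (h : σ y = y) :
    orderOf ((p ^ e : ℕ) : ZMod r) ∣ hm hp y r :=
  dvd_hm (k := Units.mk0 _ (cast_pow_ne hrp e)) (mem_HH_of_aut hrp hy hσ (z := 1) (g := g) (by rwa [map_one, one_mul])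
    (j := 1) (by rw [h, pow_one]) (by rw [Nat.cast_one, mul_one]; rfl))

theorem neg_one_mem (hy : y ^ r = 1) : -1 ∈ HH hp y r := by
  have hr := (Fact.out : r.Prime).pos
  refine ⟨r - 1, by rw [Nat.cast_pred hr, ZMod.natCast_self, zero_sub]; rfl, fun x hx => ⟨AddEquiv.neg _,
    fun b => ⟨fun h => neg_neg b ▸ IsRoot.neg h, fun h => h.neg⟩, fun b => ?_⟩⟩
  rw [AddEquiv.neg_apply, (isMC_cX hp hx).neg, inv_eq_iff_eq_inv, eq_comm]
  refine inv_eq_of_mul_eq_one_left ?_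
  rw [← pow_succ', Nat.sub_add_cancel hr, cX_pow_r hy hx]

theorem two_dvd_hm (hy : y ^ r = 1) (h2 : r ≠ 2) : 2 ∣ hm hp y r := by
  have h := dvd_hm (neg_one_mem (hp := hp) hy)
  have : Fact (2 < r) := ⟨lt_of_le_of_ne (Fact.out : r.Prime).two_le h2.symm⟩
  rwa [Units.val_neg, Units.val_one, orderOf_neg_one, if_neg (by rw [ringChar.eq (ZMod r) r]; exact h2)] at h

/-- **The table.** -/
theorem exists_pair {tab : List (ℕ × ℕ × ℕ)} (H : OK D l tab) {tp : List (ℕ × ℕ)} (H' : Red tab tp) (hrp : r ≠ p)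
    (hy : orderOf y = r) : ∃ f ∈ tp, hm hp y r ∣ f.1 ∧ dd p y = l + f.2 := by
  have hr : r.Prime := Fact.out
  obtain ⟨x, ζ, c, c0, a1, a2, a3, a4, a5⟩ := CI.exists_kacform hp hr hrp (hy ▸ pow_orderOf_eq_one y) fun h => by
    rw [h, orderOf_one] at hy
    exact hr.ne_one hy.symm
  obtain ⟨k, hk⟩ := IsCyclic.exists_ofOrder_eq_natCard (α := HH hp y r)
  obtain ⟨a, h1, h2⟩ := k.2
  obtain ⟨u, h3, h4⟩ := h2 x a3
  obtain ⟨f, hf, h5, h6⟩ := shape hp a2 a5 u h3 (k := (a : ZMod r)) (fun b => by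
    have h5 := h4 b
    have h0 := a1.ne_zero hr.ne_zero
    rw [a4, a4, ← zpow_natCast, ← zpow_mul] at h5
    rw [← Int.cast_natCast, ← Int.cast_mul, eq_comm, ZMod.intCast_eq_intCast_iff_dvd_sub, ← a1.zpow_eq_one_iff_dvd,
      zpow_sub₀ h0, h5, mul_comm, div_self (zpow_ne_zero _ h0)]) H H'
  refine ⟨f, hf, ?_, ?_⟩
  · rwa [h1, orderOf_units, Subgroup.orderOf_coe, hk] at h5
  · rw [← h6, ← dd_conj x y]
    exact dd_tor_zpow hp a3 a1 (f := bb c) a4

theorem dd_le_of {tab : List (ℕ × ℕ × ℕ)} (H : OK D l tab) {tp : List (ℕ × ℕ)} (H' : Red tab tp) (hrp : r ≠ p)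
    (hy : orderOf y = r) {n B : ℕ} (hn : n ∣ hm hp y r) (h : ∀ f ∈ tp, n ∣ f.1 → f.2 ≤ B) : dd p y ≤ l + B := by
  obtain ⟨f, hf, h1, h2⟩ := exists_pair (hp := hp) H H' hrp hy
  rw [h2]
  exact Nat.add_le_add_left (h f hf (hn.trans h1)) l

/-- **The automizer in a group embedded in `Y`.** -/
theorem relIndex_dvd {K : Type*} [Group K] (ι : K →* YY D p) (hrp : r ≠ p) {a : K}
    (ha : orderOf a = r) :
    (Subgroup.centralizer {a}).relIndex (Subgroup.normalizer (Subgroup.zpowers a : Set K)) ∣ hm hp (ι a) r := by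
  have hr : r.Prime := Fact.out
  have hfin : IsOfFinOrder a := orderOf_pos_iff.1 (ha ▸ hr.pos)
  have h1 : ∀ x : Subgroup.normalizer (Subgroup.zpowers a : Set K), ∃ j : ℕ, a ^ j = x * a * (x : K)⁻¹ := fun x =>
    (hfin.mem_powers_iff_mem_zpowers).2 ((Subgroup.mem_normalizer_iff.1 x.2 a).1 (Subgroup.mem_zpowers a))
  choose f hf using h1
  have h2 : ∀ i j : ℕ, (i : ZMod r) = j ↔ a ^ i = a ^ j := fun i j => by
    rw [ZMod.natCast_eq_natCast_iff, pow_eq_pow_iff_modEq, ha]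
  let φ : Subgroup.normalizer (Subgroup.zpowers a : Set K) →* ZMod r :=
    { toFun := fun x => f x
      map_one' := by
        rw [← Nat.cast_one, h2, hf, pow_one, Subgroup.coe_one, one_mul, inv_one, mul_one]
      map_mul' := fun x z => by
        rw [← Nat.cast_mul, h2, hf, pow_mul, hf, conj_pow, hf, Subgroup.coe_mul]
        group }
  have h3 : φ.toHomUnits.ker = (Subgroup.centralizer {a}).subgroupOf _ := by
    ext x
    rw [MonoidHom.mem_ker, Subgroup.mem_subgroupOf, Subgroup.mem_centralizer_singleton_iff, ← Units.val_eq_one]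
    show (f x : ZMod r) = 1 ↔ _
    rw [← Nat.cast_one, h2, hf, pow_one, mul_inv_eq_iff_eq_mul]
  have h4 : φ.toHomUnits.range ≤ HH hp (ι a) r := by
    rintro _ ⟨x, rfl⟩
    refine mem_HH_of_conj hrp (by rw [← map_pow, ← ha, pow_orderOf_eq_one, map_one]) (j := f x) ?_ rfl
    rw [← map_pow, hf, map_mul, map_mul, map_inv]
    exact (isConj_iff.2 ⟨_, rfl⟩).symm
  rw [Subgroup.relIndex, ← h3, Subgroup.index_ker]
  exact Subgroup.card_dvd_of_le h4

end Cfsg.Agent.N2.Ex.Cb
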