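import Cfsg.Agent.N2.Ex.Cb.Chk
import Cfsg.Agent.SB.Exc.CI.Tab
import Cfsg.Agent.H998.PiCy.Lat

/-!
# N2, exceptional groups: eigenvalues of automorphisms of the root system on a Kac functional (helper37)

`shape` : if an automorphism `u` of the root system multiplies the functional `bb c` modulo the prime `r` by `k`, the
order of `k` and the number of roots killed by the functional are given by the table.
-/

set_option autoImplicit false
set_option linter.unusedSectionVars false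

namespace Cfsg.Agent.N2.Ex.Cb

open CoxeterSystem Cfsg Cfsg.Lie Cfsg.Lie.ChevalleyDatum
open Cfsg.Agent.ChevalleyStructure Cfsg.Agent.ChevalleyStructure.Elts Cfsg.Agent.ChevalleyStructure.CoxeterGeom
  Cfsg.Agent.ChevalleyStructure.CoxeterGeomTypes
open Cfsg.Agent.Tits.Roots Cfsg.Agent.Nodes.RGDChev
open Cfsg.Agent.H931.KC Cfsg.Agent.DS.Nt Cfsg.Agent.SB.Exc.CI

variable {D : ChevalleyDatum} {l : ℕ} {M : CoxeterMatrix (Fin l)} (hp : IsType D l M) {r : ℕ} {c : Fin l → ℕ} {c0 : ℕ}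

/-- the lattice spanned by the roots killed by the functional -/
def EE (c : Fin l → ℕ) (h : Fin l → ℤ) : AddSubgroup (Fin l → ℤ) where
  carrier := {x | ∃ j : ℤ, ∀ i, c i ≠ 0 → x i = j * h i}
  zero_mem' := ⟨0, fun i _ => by simp⟩
  add_mem' := by
    rintro x y ⟨a, ha⟩ ⟨b, hb⟩
    exact ⟨a + b, fun i hi => by rw [Pi.add_apply, ha i hi, hb i hi, add_mul]⟩
  neg_mem' := by
    rintro x ⟨a, ha⟩
    exact ⟨-a, fun i hi => by rw [Pi.neg_apply, ha i hi, neg_mul]⟩

theorem bb_eq (x : Fin l → ℤ) : bb c x = ∑ i, x i * (c i : ℤ) := rfl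

theorem bb_congr {x y : Fin l → ℤ} (h : ∀ i, c i ≠ 0 → x i = y i) : bb c x = bb c y := by
  rw [bb_eq, bb_eq]
  refine Finset.sum_congr rfl fun i _ => ?_
  by_cases hi : c i = 0
  · rw [hi, Nat.cast_zero, mul_zero, mul_zero]
  · rw [h i hi]

theorem bb_sr (i : Fin l) : bb c (sr i) = c i := psi_sr _ i

theorem dvd_hz (K : Kac D l r c c0) : (r : ℤ) ∣ bb c (hz D l (decide (c0 = 0))) := by
  by_cases h : c0 = 0
  · rw [decide_eq_true h, hz, cond_true, bb_hr K, h]
    simp
  · rw [decide_eq_false h, hz, cond_false, map_zero]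
    exact dvd_zero _

theorem dvd_of_mem (K : Kac D l r c c0) {x : Fin l → ℤ} (hx : x ∈ EE c (hz D l (decide (c0 = 0)))) :
    (r : ℤ) ∣ bb c x := by
  obtain ⟨j, hj⟩ := hx
  rw [bb_congr (y := j • hz D l (decide (c0 = 0))) hj, map_zsmul]
  exact (dvd_hz K).mul_left j

theorem hz_mem (h : Fin l → ℤ) : h ∈ EE c h := ⟨1, fun i _ => by rw [one_mul]⟩

include hp in
theorem le_hr' {a : Fin l → ℤ} (ha : IsRoot M.toCoxeterSystem hp.isCartan a) (i : Fin l) : a i ≤ hr D l i := by
  obtain ⟨_, _, _, _, H⟩ := exists_ok hp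
  exact le_hr hp H ha i

include hp in
theorem root_hr : IsRoot M.toCoxeterSystem hp.isCartan (hr D l) := by
  obtain ⟨_, _, _, _, H⟩ := exists_ok hp
  exact isRoot_hr hp H

theorem sub_nrm (z : Bool) (a : Fin l → ℤ) : a - nrm D l z a ∈ EE c (hz D l z) := by
  unfold nrm
  split_ifs
  · rw [sub_self]
    exact zero_mem _
  · rw [sub_add_cancel_left]
    exact neg_mem (hz_mem _)

theorem nrm_bd {a : Fin l → ℤ} (ha : IsRoot M.toCoxeterSystem hp.isCartan a) (z : Bool) (i : Fin l) :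
    -hr D l i ≤ nrm D l z a i ∧ nrm D l z a i ≤ hr D l i ∧ (z = true → 0 ≤ nrm D l z a i) := by
  have h1 := le_hr' hp ha i
  have h2 := le_hr' hp ha.neg i
  have h3 := hr_pos hp i
  rw [Pi.neg_apply] at h2
  unfold nrm
  split_ifs with h
  · exact ⟨by omega, h1, fun _ => h i⟩
  · have h4 : a i ≤ 0 := ha.pos_or_neg.resolve_left h i
    rw [Pi.add_apply]
    cases z
    · simp only [hz, cond_false, Pi.zero_apply]
      exact ⟨by omega, by omega, fun h => absurd h Bool.false_ne_true⟩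
    · simp only [hz, cond_true]
      omega

theorem psi_iff (K : Kac D l r c c0) {a : Fin l → ℤ} (ha : IsRoot M.toCoxeterSystem hp.isCartan a) :
    (r : ℤ) ∣ bb c a ↔ (∀ i, c i ≠ 0 → nrm D l (decide (c0 = 0)) a i = 0) ∨
      ∀ i, c i ≠ 0 → nrm D l (decide (c0 = 0)) a i = hz D l (decide (c0 = 0)) i := by
  constructor
  · intro h
    have hn := ha.pos_or_neg
    obtain ⟨s, hs, rfl⟩ := (isRoot_iff hp M.toCoxeterSystem a).1 ha
    have h1 := dvd_cases hp K ⟨s, hs⟩ h
    unfold nrm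
    split_ifs with h2
    · rcases h1 with h1 | ⟨h0, h1 | h1⟩
      · exact Or.inl h1
      · exact Or.inr (by rw [decide_eq_true h0]; exact h1)
      · refine Or.inl fun i hi => ?_
        have h3 := h1 i hi
        have h4 := h2 i
        have h5 := hr_pos hp i
        simp only at h3
        omega
    · have h4 : ∀ i, vec D l s i ≤ 0 := hn.resolve_left h2
      rcases h1 with h1 | ⟨h0, h1 | h1⟩
      · exact Or.inr fun i hi => by rw [Pi.add_apply, h1 i hi, zero_add]
      · refine Or.inl fun i hi => ?_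
        have h3 := h1 i hi
        have h4 := h4 i
        have h5 := hr_pos hp i
        simp only at h3
        omega
      · exact Or.inl fun i hi => by
          rw [Pi.add_apply, h1 i hi, decide_eq_true h0]
          exact neg_add_cancel _
  · intro h
    have h1 : nrm D l (decide (c0 = 0)) a ∈ EE c (hz D l (decide (c0 = 0))) := by
      rcases h with h | h
      · exact ⟨0, fun i hi => by rw [h i hi, zero_mul]⟩
      · exact ⟨1, fun i hi => by rw [h i hi, one_mul]⟩
    have h2 := add_mem (sub_nrm (c := c) (D := D) (decide (c0 = 0)) a) h1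
    rw [sub_add_cancel] at h2
    exact dvd_of_mem K h2

theorem mem_of_dvd (K : Kac D l r c c0) {a : Fin l → ℤ} (ha : IsRoot M.toCoxeterSystem hp.isCartan a)
    (h : (r : ℤ) ∣ bb c a) : a ∈ EE c (hz D l (decide (c0 = 0))) := by
  have h1 : nrm D l (decide (c0 = 0)) a ∈ EE c (hz D l (decide (c0 = 0))) := by
    rcases (psi_iff hp K ha).1 h with h | h
    · exact ⟨0, fun i hi => by rw [h i hi, zero_mul]⟩
    · exact ⟨1, fun i hi => by rw [h i hi, one_mul]⟩
  have h2 := add_mem (sub_nrm (c := c) (D := D) (decide (c0 = 0)) a) h1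
  rwa [sub_add_cancel] at h2

theorem key_iff (K : Kac D l r c c0) {a b : Fin l → ℤ} (ha : IsRoot M.toCoxeterSystem hp.isCartan a)
    (hb : IsRoot M.toCoxeterSystem hp.isCartan b) (h1 : ¬ (r : ℤ) ∣ bb c a) (h2 : ¬ (r : ℤ) ∣ bb c b) :
    (∀ i, c i ≠ 0 → nrm D l (decide (c0 = 0)) a i = nrm D l (decide (c0 = 0)) b i) ↔
      a - b ∈ EE c (hz D l (decide (c0 = 0))) := by
  have h3 : a - b ∈ EE c (hz D l (decide (c0 = 0))) ↔
      nrm D l (decide (c0 = 0)) a - nrm D l (decide (c0 = 0)) b ∈ EE c (hz D l (decide (c0 = 0))) := by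
    have e : a - b = (nrm D l (decide (c0 = 0)) a - nrm D l (decide (c0 = 0)) b) +
        ((a - nrm D l (decide (c0 = 0)) a) - (b - nrm D l (decide (c0 = 0)) b)) := by abel
    rw [e, AddSubgroup.add_mem_cancel_right _ (sub_mem (sub_nrm _ a) (sub_nrm _ b))]
  rw [h3]
  refine ⟨fun h => ⟨0, fun i hi => by rw [Pi.sub_apply, h i hi, sub_self, zero_mul]⟩, fun ⟨j, hj⟩ => ?_⟩
  rw [psi_iff hp K ha, not_or] at h1
  rw [psi_iff hp K hb, not_or] at h2
  generalize decide (c0 = 0) = z at *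
  cases z
  · intro i hi
    have h4 := hj i hi
    rw [hz, cond_false, Pi.zero_apply, mul_zero, Pi.sub_apply] at h4
    exact sub_eq_zero.1 h4
  · have h4 : ∀ i, c i ≠ 0 → nrm D l true a i - nrm D l true b i = j * hr D l i := hj
    rcases lt_trichotomy j 0 with h5 | rfl | h5
    · refine absurd (fun i hi => ?_) h1.1
      have h6 := h4 i hi
      have h7 := nrm_bd hp ha true i
      have h8 := nrm_bd hp hb true i
      have h9 := hr_pos hp i
      have h10 : j * hr D l i ≤ -hr D l i := by nlinarith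
      have h11 := h7.2.2 rfl
      omega
    · intro i hi
      have h6 := h4 i hi
      omega
    · refine absurd (fun i hi => ?_) h2.1
      have h6 := h4 i hi
      have h7 := nrm_bd hp ha true i
      have h8 := nrm_bd hp hb true i
      have h9 := hr_pos hp i
      have h10 : hr D l i ≤ j * hr D l i := by nlinarith
      have h11 := h8.2.2 rfl
      omega

theorem EE_le (K : Kac D l r c c0) {H : AddSubgroup (Fin l → ℤ)}
    (h : ∀ a, IsRoot M.toCoxeterSystem hp.isCartan a → (r : ℤ) ∣ bb c a → a ∈ H) : EE c (hz D l (decide (c0 = 0))) ≤ H := by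
  rintro x ⟨j, hj⟩
  have h1 : hz D l (decide (c0 = 0)) ∈ H := by
    have h2 := dvd_hz K
    generalize decide (c0 = 0) = z at *
    cases z
    · exact zero_mem _
    · exact h _ (root_hr hp) h2
  have h2 : x = j • hz D l (decide (c0 = 0)) + ∑ i, (x i - j * hz D l (decide (c0 = 0)) i) • sr i := by
    funext m
    simp [sr, Finset.sum_apply, Pi.single_apply]
  rw [h2]
  refine add_mem (zsmul_mem h1 j) (sum_mem fun i _ => ?_)
  by_cases hi : c i = 0
  · exact zsmul_mem (h _ (isRoot_sr _ _ i) (by rw [bb_sr, hi]; exact dvd_zero _)) _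
  · rw [hj i hi, sub_self, zero_smul]
    exact zero_mem _

/-- the rank bound -/
theorem rank_le [Fact r.Prime] (u : (Fin l → ℤ) →+ (Fin l → ℤ)) {N : ℕ} (hN : 0 < N) (hu : ∀ i, u^[N] (sr i) = sr i)
    (T : Finset (Fin l)) (hT : ∀ x : Fin l → ℤ, (∀ i ∈ T, x i = 0) → ∀ i ∈ T, u x i = 0) (hc : ∀ i, c i ≠ 0 → i ∈ T)
    (hne : ¬ ∀ x, (r : ℤ) ∣ bb c x) {k : ZMod r} (hk : ∀ x, ((bb c (u x) : ℤ) : ZMod r) = k * (bb c x : ℤ)) :
    (orderOf k).totient ≤ T.card := by
  let e : Fin T.card → Fin l := fun i => (T.equivFin.symm i : Fin l)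
  have he : ∀ i, e i ∈ T := fun i => (T.equivFin.symm i).2
  have hs : ∀ f : Fin l → ℤ, (∀ i, i ∉ T → f i = 0) → ∑ i, f i = ∑ i, f (e i) := fun f hf => by
    rw [← Finset.sum_subset (Finset.subset_univ T) fun i _ hi => hf i hi, ← Finset.sum_coe_sort]
    exact (Equiv.sum_comp T.equivFin.symm fun i : T => f i).symm
  let A : Matrix (Fin T.card) (Fin T.card) ℤ := Matrix.of fun i j => u (sr (e i)) (e j)
  have h1 : ∀ n i j, (A ^ n) i j = u^[n] (sr (e i)) (e j) := fun n => by
    induction n with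
    | zero =>
      intro i j
      rw [pow_zero, Function.iterate_zero_apply, Matrix.one_apply]
      split_ifs with h
      · rw [h, sr_self]
      · rw [sr_ne fun h' => h (T.equivFin.symm.injective (Subtype.ext h')).symm]
    | succ n ih =>
      intro i j
      rw [pow_succ, Matrix.mul_apply, Function.iterate_succ_apply']
      have h2 := eq_psi ((Pi.evalAddMonoidHom (fun _ => ℤ) (e j)).comp u) (u^[n] (sr (e i)))
      refine Eq.trans ?_ h2.symm
      rw [hs _ fun m hm => ?_]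
      · exact Finset.sum_congr rfl fun m _ => by rw [ih]; rfl
      · exact mul_eq_zero_of_right _ (hT (sr m) (fun i hi => sr_ne fun h => hm (h ▸ hi)) _ (he j))
  have h2 : A ^ N = 1 := by
    ext i j
    rw [h1, hu, ← pow_zero A, h1, Function.iterate_zero_apply]
  have h3 : ∀ x, bb c x = ∑ i, x (e i) * c (e i) := fun x =>
    hs (fun i => x i * c i) fun i hi => by rw [not_not.1 fun h => hi (hc i h), Nat.cast_zero, mul_zero]
  obtain ⟨d, hd, h4, h5⟩ := H998.PiCy.Lat.exists_totient A hN h2 (i := k) (v := fun i => (c (e i) : ZMod r))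
    (fun h => hne fun x => by
      rw [h3]
      refine Finset.dvd_sum fun i _ => Dvd.dvd.mul_left ?_ _
      exact Int.natCast_dvd_natCast.2 ((ZMod.natCast_eq_zero_iff _ _).1 (congrFun h i)))
    (by
      funext i
      have h6 := hk (sr (e i))
      rw [h3, bb_sr] at h6
      push_cast at h6
      exact h6)
  exact (Nat.le_of_dvd (Nat.totient_pos.2 hd) (Nat.totient_dvd_of_dvd (orderOf_dvd_of_pow_eq_one h5))).trans h4

/-- **The table.** -/
theorem shape3 [Fact r.Prime] (K : Kac D l r c c0) (hne : ¬ ∀ x, (r : ℤ) ∣ bb c x) (u : (Fin l → ℤ) ≃+ (Fin l → ℤ))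
    (hu : ∀ a, IsRoot M.toCoxeterSystem hp.isCartan (u a) ↔ IsRoot M.toCoxeterSystem hp.isCartan a) {k : ZMod r}
    (hk : ∀ x, ((bb c (u x) : ℤ) : ZMod r) = k * (bb c x : ℤ)) {tab : List (ℕ × ℕ × ℕ)} (H : OK D l tab) :
    ∃ e ∈ tab, orderOf k ∣ e.1 ∧ nK D l r c = e.2.1 ∧ (orderOf k).totient ≤ e.2.2 := by
  classical
  have hz0 : ∀ x : ℤ, (x : ZMod r) = 0 ↔ (r : ℤ) ∣ x := fun x => ZMod.intCast_zmod_eq_zero_iff_dvd x r
  have hk0 : k ≠ 0 := fun h => hne fun x => by
    rw [← hz0, ← u.apply_symm_apply x, hk, h, zero_mul]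
  have hd : ∀ x, (r : ℤ) ∣ bb c (u x) ↔ (r : ℤ) ∣ bb c x := fun x => by
    rw [← hz0, ← hz0, hk, mul_eq_zero, or_iff_right hk0]
  set z := decide (c0 = 0) with hzd
  have hE : ∀ x, u x ∈ EE c (hz D l z) ↔ x ∈ EE c (hz D l z) := fun x => by
    refine ⟨fun h => ?_, fun h => ?_⟩
    · have h1 := EE_le hp K (H := (EE c (hz D l z)).comap u.symm.toAddMonoidHom) (fun a ha h2 =>
        mem_of_dvd hp K ((hu _).1 (by rwa [AddEquiv.coe_toAddMonoidHom, u.apply_symm_apply]))
          ((hd _).1 (by rwa [AddEquiv.coe_toAddMonoidHom, u.apply_symm_apply]))) h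
      rwa [AddSubgroup.mem_comap, AddEquiv.coe_toAddMonoidHom, u.symm_apply_apply] at h1
    · exact EE_le hp K (H := (EE c (hz D l z)).comap u.toAddMonoidHom)
        (fun a ha h2 => mem_of_dvd hp K ((hu a).2 ha) ((hd a).2 h2)) h
  have hv : ∀ s : Fin D.nroots, IsRoot M.toCoxeterSystem hp.isCartan (vec D l s) := fun s => isRoot_vec hp _ s.2
  have h1 : ∀ s : Fin D.nroots, ∃ s' : Fin D.nroots, vec D l s' = u (vec D l s) := fun s => by
    obtain ⟨s', h, h'⟩ := (isRoot_iff hp M.toCoxeterSystem _).1 ((hu _).2 (hv s))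
    exact ⟨⟨s', h⟩, h'⟩
  choose f hf using h1
  have hinj : Function.Injective f := fun s t h =>
    Fin.ext (vec_inj hp s.2 t.2 (u.injective (by rw [← hf, ← hf, h])))
  let ρ : Equiv.Perm (Fin D.nroots) := Equiv.ofBijective f (Finite.injective_iff_bijective.1 hinj)
  have hρ : ∀ s, vec D l (ρ s) = u (vec D l s) := hf
  let m : Fin l → ℕ := fun i => if c i = 0 then 0 else 1
  have hm : ∀ i, m i = 0 ∨ m i = 1 := fun i => by
    by_cases h : c i = 0
    · exact Or.inl (if_pos h)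
    · exact Or.inr (if_neg h)
  have hm' : ∀ i, m i ≠ 0 ↔ c i ≠ 0 := fun i => by
    by_cases h : c i = 0 <;> simp [m, h]
  have hcd : ∀ x y : Fin l → ℤ, (∀ i, -hr D l i ≤ x i ∧ x i ≤ hr D l i) → (∀ i, -hr D l i ≤ y i ∧ y i ≤ hr D l i) →
      (cd (List.ofFn m) (dg x) = cd (List.ofFn m) (dg y) ↔ ∀ i, c i ≠ 0 → x i = y i) := fun x y hx hy => by
    rw [dg, dg, cd_eq_iff m _ _ hm (fun i => by have := hx i; have := H.1 i; omega)
      fun i => by have := hy i; have := H.1 i; omega]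
    refine forall_congr' fun i => ?_
    rw [hm']
    refine imp_congr_right fun _ => ?_
    have := hx i; have := hy i; have := H.1 i
    omega
  have hb : ∀ s : Fin D.nroots, ∀ i, -hr D l i ≤ nrm D l z (vec D l s) i ∧ nrm D l z (vec D l s) i ≤ hr D l i :=
    fun s i => ⟨(nrm_bd hp (hv s) z i).1, (nrm_bd hp (hv s) z i).2.1⟩
  have hb0 : ∀ i, -hr D l i ≤ (0 : Fin l → ℤ) i ∧ (0 : Fin l → ℤ) i ≤ hr D l i := fun i => by
    have := hr_pos hp i
    rw [Pi.zero_apply]
    omega
  have hb1 : ∀ i, -hr D l i ≤ hz D l z i ∧ hz D l z i ≤ hr D l i := fun i => by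
    have := hr_pos hp i
    generalize z = z'
    cases z'
    · exact hb0 i
    · simp only [hz, cond_true]
      omega
  let key : Fin D.nroots → ℕ := fun s => cd (List.ofFn m) (dg (nrm D l z (vec D l s)))
  let q : ℕ → Bool := fun y => !(Nat.beq y (cd (List.ofFn m) (dg (0 : Fin l → ℤ))) || Nat.beq y (cd (List.ofFn m) (dg (hz D l z))))
  have hq : ∀ s, q (key s) = true ↔ ¬ (r : ℤ) ∣ bb c (vec D l s) := fun s => by
    rw [psi_iff hp K (hv s), ← hcd _ _ (hb s) hb1]
    have h2 := hcd _ _ (hb s) hb0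
    simp only [Pi.zero_apply] at h2
    rw [← h2]
    simp only [q, key, Bool.not_eq_true', ← Bool.not_eq_true, Bool.or_eq_true, Nat.beq_eq]
  have hkey : ∀ s t, q (key s) = true → q (key t) = true → (key s = key t ↔ vec D l s - vec D l t ∈ EE c (hz D l z)) :=
    fun s t hs ht => (hcd _ _ (hb s) (hb t)).trans (key_iff hp K (hv s) (hv t) ((hq s).1 hs) ((hq t).1 ht))
  have hK : keys (tb D l z) (dg (0 : Fin l → ℤ)) (dg (hz D l z)) (List.ofFn m) = (List.ofFn key).filter q := by
    rw [keys, tb, List.map_ofFn]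
    rfl
  have hP : ∀ s, q (key (ρ s)) = true ↔ q (key s) = true := fun s => by rw [hq, hq, hρ, hd]
  have h2 := core_list q ρ key (fun s => ((bb c (vec D l s) : ℤ) : ZMod r)) k hP
    (fun s hs => by rw [Ne, hz0]; exact (hq s).1 hs) (fun s => by rw [hρ, hk])
    (fun s t hs ht => by rw [hkey _ _ ((hP s).2 hs) ((hP t).2 ht), hkey _ _ hs ht, hρ, hρ, ← map_sub, hE])
    fun s t hs ht h => by
      rw [← sub_eq_zero, ← Int.cast_sub, ← map_sub, hz0]
      exact dvd_of_mem K ((hkey s t hs ht).1 h)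
  have h3 : D.nroots - ((List.ofFn key).filter q).length = nK D l r c := by
    rw [length_filter_ofFn, nK]
    have h4 := Finset.card_filter_add_card_filter_not (s := Finset.univ) fun s : Fin D.nroots => (r : ℤ) ∣ bb c (vec D l s)
    rw [Finset.card_univ, Fintype.card_fin] at h4
    simp only [hq]
    omega
  have hsr : ∀ i, ∃ s : Fin D.nroots, vec D l s = sr i := fun i => by
    obtain ⟨s, h, h'⟩ := (isRoot_iff hp M.toCoxeterSystem _).1 (isRoot_sr M.toCoxeterSystem hp.isCartan i)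
    exact ⟨⟨s, h⟩, h'⟩
  have h4 : ∀ (n : ℕ) (s : Fin D.nroots), u.toAddMonoidHom^[n] (vec D l s) = vec D l ((ρ ^ n) s) := fun n s => by
    induction n with
    | zero => rfl
    | succ n ih => rw [Function.iterate_succ_apply', ih, pow_succ', Equiv.Perm.mul_apply, hρ]; rfl
  have h5 : ∀ i, u.toAddMonoidHom^[orderOf ρ] (sr i) = sr i := fun i => by
    obtain ⟨s, hs⟩ := hsr i
    rw [← hs, h4, pow_orderOf_eq_one]
    rfl
  have h6 : (orderOf k).totient ≤ bif z then l else (List.ofFn m).sum := by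
    cases h : z
    · have h7 := rank_le u.toAddMonoidHom (orderOf_pos ρ) h5 (Finset.univ.filter fun i => c i ≠ 0) (fun x hx i hi => by
        obtain ⟨j, hj⟩ := (hE x).2 ⟨0, fun i hi => by rw [hx i (by simpa using hi), zero_mul]⟩
        have h8 := hj i (by simpa using hi)
        rwa [h, hz, cond_false, Pi.zero_apply, mul_zero] at h8) (fun i hi => by simpa using hi) hne hk
      rw [cond_false, List.sum_ofFn]
      rw [Finset.card_filter] at h7
      refine h7.trans (le_of_eq (Finset.sum_congr rfl fun i _ => ?_))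
      by_cases h8 : c i = 0 <;> simp [m, h8]
    · have h7 := rank_le u.toAddMonoidHom (orderOf_pos ρ) h5 Finset.univ (fun x hx i _ => by
        rw [(funext fun i => hx i (Finset.mem_univ i) : x = 0), map_zero]
        rfl) (fun i _ => Finset.mem_univ i) hne hk
      rwa [Finset.card_univ, Fintype.card_fin] at h7
  have h7 := H.2 z _ (mem_masks m hm)
  rw [chk, hK, Bool.or_eq_true] at h7
  rcases h7 with h7 | h7
  · refine absurd (fun x => ?_) hne
    rw [bb_eq]
    refine Finset.dvd_sum fun i _ => Dvd.dvd.mul_left ?_ _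
    obtain ⟨s, hs⟩ := hsr i
    rw [← bb_sr, ← hs]
    by_contra h8
    have h9 : key s ∈ (List.ofFn key).filter q := List.mem_filter.2 ⟨List.mem_ofFn.2 ⟨s, rfl⟩, (hq s).2 h8⟩
    rw [List.isEmpty_iff.1 h7] at h9
    exact List.not_mem_nil h9
  · exact ⟨_, memT_spec h7, h2, h3.symm, h6⟩

/-- **The table of pairs.** -/
theorem shape [Fact r.Prime] (K : Kac D l r c c0) (hne : ¬ ∀ x, (r : ℤ) ∣ bb c x) (u : (Fin l → ℤ) ≃+ (Fin l → ℤ))
    (hu : ∀ a, IsRoot M.toCoxeterSystem hp.isCartan (u a) ↔ IsRoot M.toCoxeterSystem hp.isCartan a) {k : ZMod r}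
    (hk : ∀ x, ((bb c (u x) : ℤ) : ZMod r) = k * (bb c x : ℤ)) {tab : List (ℕ × ℕ × ℕ)} (H : OK D l tab)
    {tp : List (ℕ × ℕ)} (H' : Red tab tp) : ∃ f ∈ tp, orderOf k ∣ f.1 ∧ nK D l r c = f.2 := by
  obtain ⟨e, he, h1, h2, h3⟩ := shape3 hp K hne u hu hk H
  obtain ⟨h4, h5⟩ := H' e he
  rw [h2]
  exact h5 _ (List.mem_range.2 (Nat.lt_succ_of_le (Nat.le_of_dvd (Nat.pos_of_ne_zero h4) h1))) h1 h3

end Cfsg.Agent.N2.Ex.Cb
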