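import Cfsg.Agent.N2.Ex.Cb.Chk

/-!
# N2, exceptional groups: the tables of classes of roots, rank at most 7 (helper37)
-/

set_option autoImplicit false
set_option maxRecDepth 100000

namespace Cfsg.Agent.N2.Ex.Cb

open Cfsg Cfsg.Lie Cfsg.Agent.H931.KC

/-- normal forms -/
def t0G2 : List (List ℕ) :=
  [[5, 6], [5, 7], [6, 7], [7, 7], [7, 8], [8, 7], [8, 9], [9, 8], [9, 9], [10, 9], [11, 9], [11, 10]]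

/-- normal forms -/
def t1G2 : List (List ℕ) :=
  [[8, 8], [8, 9], [9, 9], [10, 9], [10, 10], [11, 9], [8, 9], [9, 8], [9, 9], [10, 9], [11, 9], [11, 10]]

/-- the triples (gcd, number of roots, rank bound) -/
def t3G2 : List (ℕ × ℕ × ℕ) :=
  [(1, 4, 2), (2, 2, 1), (2, 2, 2), (2, 6, 2), (12, 0, 2)]

/-- the pairs (multiple of the order, number of roots) -/
def tpG2 : List (ℕ × ℕ) :=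
  [(1, 4), (2, 2), (2, 6), (4, 0), (6, 0)]

theorem eG2 : (∀ i, hr chevG2 2 i ≤ 7) ∧ tb chevG2 2 false = t0G2 ∧ tb chevG2 2 true = t1G2 ∧ dg (0 : Fin 2 → ℤ) = [8, 8] ∧
    dg (hz chevG2 2 false) = [8, 8] ∧ dg (hz chevG2 2 true) = [11, 10] ∧ chevG2.nroots = 12 := by decide +kernel

theorem c0G2 : (masks 2).all (chk t0G2 [8, 8] [8, 8] false 12 2 t3G2) = true := by decide +kernel

theorem c1G2 : (masks 2).all (chk t1G2 [8, 8] [11, 10] true 12 2 t3G2) = true := by decide +kernel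

theorem okG2 : OK chevG2 2 t3G2 := ok_of eG2 c0G2 c1G2

theorem redG2 : Red t3G2 tpG2 := by decide +kernel

/-- normal forms -/
def t0B2 : List (List ℕ) :=
  [[6, 7], [7, 7], [7, 8], [8, 7], [8, 9], [9, 8], [9, 9], [10, 9]]

/-- normal forms -/
def t1B2 : List (List ℕ) :=
  [[8, 8], [9, 8], [9, 9], [10, 8], [8, 9], [9, 8], [9, 9], [10, 9]]

/-- the triples (gcd, number of roots, rank bound) -/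
def t3B2 : List (ℕ × ℕ × ℕ) :=
  [(1, 4, 2), (2, 2, 1), (2, 2, 2), (8, 0, 2)]

/-- the pairs (multiple of the order, number of roots) -/
def tpB2 : List (ℕ × ℕ) :=
  [(1, 4), (2, 2), (4, 0)]

theorem eB2 : (∀ i, hr chevB2 2 i ≤ 7) ∧ tb chevB2 2 false = t0B2 ∧ tb chevB2 2 true = t1B2 ∧ dg (0 : Fin 2 → ℤ) = [8, 8] ∧
    dg (hz chevB2 2 false) = [8, 8] ∧ dg (hz chevB2 2 true) = [10, 9] ∧ chevB2.nroots = 8 := by decide +kernel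

theorem c0B2 : (masks 2).all (chk t0B2 [8, 8] [8, 8] false 8 2 t3B2) = true := by decide +kernel

theorem c1B2 : (masks 2).all (chk t1B2 [8, 8] [10, 9] true 8 2 t3B2) = true := by decide +kernel

theorem okB2 : OK chevB2 2 t3B2 := ok_of eB2 c0B2 c1B2

theorem redB2 : Red t3B2 tpB2 := by decide +kernel

/-- normal forms -/
def t0D4 : List (List ℕ) :=
  [[7, 6, 7, 7], [7, 7, 7, 7], [7, 7, 7, 8], [7, 7, 8, 7], [7, 7, 8, 8], [7, 8, 8, 8], [8, 7, 7, 7], [8, 7, 7, 8], [8, 7, 8, 7], [8, 7, 8, 8], [8, 8,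
  7, 8], [8, 8, 8, 7], [8, 8, 8, 9], [8, 8, 9, 8], [8, 9, 8, 8], [8, 9, 8, 9], [8, 9, 9, 8], [8, 9, 9, 9], [9, 8, 8, 8], [9, 9, 8, 8], [9, 9, 8, 9],
  [9, 9, 9, 8], [9, 9, 9, 9], [9, 10, 9, 9]]

/-- normal forms -/
def t1D4 : List (List ℕ) :=
  [[8, 8, 8, 8], [8, 9, 8, 8], [8, 9, 8, 9], [8, 9, 9, 8], [8, 9, 9, 9], [8, 10, 9, 9], [9, 9, 8, 8], [9, 9, 8, 9], [9, 9, 9, 8], [9, 9, 9, 9], [9,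
  10, 8, 9], [9, 10, 9, 8], [8, 8, 8, 9], [8, 8, 9, 8], [8, 9, 8, 8], [8, 9, 8, 9], [8, 9, 9, 8], [8, 9, 9, 9], [9, 8, 8, 8], [9, 9, 8, 8], [9, 9, 8,
  9], [9, 9, 9, 8], [9, 9, 9, 9], [9, 10, 9, 9]]

/-- the triples (gcd, number of roots, rank bound) -/
def t3D4 : List (ℕ × ℕ × ℕ) :=
  [(1, 8, 4), (2, 2, 3), (2, 2, 4), (2, 6, 1), (2, 6, 4), (2, 12, 1), (2, 12, 4), (4, 4, 2), (4, 4, 4), (6, 6, 2), (6, 6, 4), (24, 0, 4)]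

/-- the pairs (multiple of the order, number of roots) -/
def tpD4 : List (ℕ × ℕ) :=
  [(1, 8), (2, 2), (2, 12), (4, 4), (6, 6), (8, 0), (12, 0)]

theorem eD4 : (∀ i, hr chevD4 4 i ≤ 7) ∧ tb chevD4 4 false = t0D4 ∧ tb chevD4 4 true = t1D4 ∧ dg (0 : Fin 4 → ℤ) = [8, 8, 8, 8] ∧
    dg (hz chevD4 4 false) = [8, 8, 8, 8] ∧ dg (hz chevD4 4 true) = [9, 10, 9, 9] ∧ chevD4.nroots = 24 := by decide +kernel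

theorem c0D4 : (masks 4).all (chk t0D4 [8, 8, 8, 8] [8, 8, 8, 8] false 24 4 t3D4) = true := by decide +kernel

theorem c1D4 : (masks 4).all (chk t1D4 [8, 8, 8, 8] [9, 10, 9, 9] true 24 4 t3D4) = true := by decide +kernel

theorem okD4 : OK chevD4 4 t3D4 := ok_of eD4 c0D4 c1D4

theorem redD4 : Red t3D4 tpD4 := by decide +kernel

/-- normal forms -/
def t0F4 : List (List ℕ) :=
  [[6, 4, 5, 6], [6, 4, 5, 7], [6, 4, 6, 7], [6, 5, 6, 7], [6, 6, 6, 7], [6, 6, 7, 7], [6, 6, 7, 8], [7, 5, 6, 7], [7, 6, 6, 7], [7, 6, 7, 7], [7, 6,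
  7, 8], [7, 7, 7, 7], [7, 7, 7, 8], [7, 7, 8, 8], [7, 8, 8, 8], [8, 6, 6, 7], [8, 6, 7, 7], [8, 6, 7, 8], [8, 7, 7, 7], [8, 7, 7, 8], [8, 7, 8, 8],
  [8, 8, 7, 7], [8, 8, 7, 8], [8, 8, 8, 7], [8, 8, 8, 9], [8, 8, 9, 8], [8, 8, 9, 9], [8, 9, 8, 8], [8, 9, 9, 8], [8, 9, 9, 9], [8, 10, 9, 8], [8, 10,
  9, 9], [8, 10, 10, 9], [9, 8, 8, 8], [9, 9, 8, 8], [9, 9, 9, 8], [9, 9, 9, 9], [9, 10, 9, 8], [9, 10, 9, 9], [9, 10, 10, 9], [9, 11, 10, 9], [10,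
  10, 9, 8], [10, 10, 9, 9], [10, 10, 10, 9], [10, 11, 10, 9], [10, 12, 10, 9], [10, 12, 11, 9], [10, 12, 11, 10]]

/-- normal forms -/
def t1F4 : List (List ℕ) :=
  [[8, 8, 8, 8], [8, 8, 8, 9], [8, 8, 9, 9], [8, 9, 9, 9], [8, 10, 9, 9], [8, 10, 10, 9], [8, 10, 10, 10], [9, 9, 9, 9], [9, 10, 9, 9], [9, 10, 10,
  9], [9, 10, 10, 10], [9, 11, 10, 9], [9, 11, 10, 10], [9, 11, 11, 10], [9, 12, 11, 10], [10, 10, 9, 9], [10, 10, 10, 9], [10, 10, 10, 10], [10, 11,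
  10, 9], [10, 11, 10, 10], [10, 11, 11, 10], [10, 12, 10, 9], [10, 12, 10, 10], [10, 12, 11, 9], [8, 8, 8, 9], [8, 8, 9, 8], [8, 8, 9, 9], [8, 9, 8,
  8], [8, 9, 9, 8], [8, 9, 9, 9], [8, 10, 9, 8], [8, 10, 9, 9], [8, 10, 10, 9], [9, 8, 8, 8], [9, 9, 8, 8], [9, 9, 9, 8], [9, 9, 9, 9], [9, 10, 9, 8],
  [9, 10, 9, 9], [9, 10, 10, 9], [9, 11, 10, 9], [10, 10, 9, 8], [10, 10, 9, 9], [10, 10, 10, 9], [10, 11, 10, 9], [10, 12, 10, 9], [10, 12, 11, 9],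
  [10, 12, 11, 10]]

/-- the triples (gcd, number of roots, rank bound) -/
def t3F4 : List (ℕ × ℕ × ℕ) :=
  [(1, 4, 4), (1, 6, 4), (1, 10, 4), (1, 12, 4), (1, 14, 4), (1, 20, 4), (1, 32, 4), (2, 2, 3), (2, 2, 4), (2, 4, 2), (2, 4, 4), (2, 8, 1), (2, 8, 4),
  (2, 12, 4), (2, 18, 1), (4, 8, 2), (6, 6, 2), (6, 6, 4), (48, 0, 4)]

/-- the pairs (multiple of the order, number of roots) -/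
def tpF4 : List (ℕ × ℕ) :=
  [(1, 10), (1, 14), (1, 20), (1, 32), (2, 2), (2, 4), (2, 12), (2, 18), (4, 8), (6, 6), (8, 0), (12, 0)]

theorem eF4 : (∀ i, hr chevF4 4 i ≤ 7) ∧ tb chevF4 4 false = t0F4 ∧ tb chevF4 4 true = t1F4 ∧ dg (0 : Fin 4 → ℤ) = [8, 8, 8, 8] ∧
    dg (hz chevF4 4 false) = [8, 8, 8, 8] ∧ dg (hz chevF4 4 true) = [10, 12, 11, 10] ∧ chevF4.nroots = 48 := by decide +kernel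

theorem c0F4 : (masks 4).all (chk t0F4 [8, 8, 8, 8] [8, 8, 8, 8] false 48 4 t3F4) = true := by decide +kernel

theorem c1F4 : (masks 4).all (chk t1F4 [8, 8, 8, 8] [10, 12, 11, 10] true 48 4 t3F4) = true := by decide +kernel

theorem okF4 : OK chevF4 4 t3F4 := ok_of eF4 c0F4 c1F4

theorem redF4 : Red t3F4 tpF4 := by decide +kernel

/-- normal forms -/
def t0E6 : List (List ℕ) :=
  [[7, 6, 6, 5, 6, 7], [7, 7, 6, 5, 6, 7], [7, 7, 6, 6, 6, 7], [7, 7, 6, 6, 7, 7], [7, 7, 6, 6, 7, 8], [7, 7, 7, 6, 6, 7], [7, 7, 7, 6, 7, 7], [7, 7,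
  7, 6, 7, 8], [7, 7, 7, 7, 7, 7], [7, 7, 7, 7, 7, 8], [7, 7, 7, 7, 8, 8], [7, 8, 7, 7, 7, 7], [7, 8, 7, 7, 7, 8], [7, 8, 7, 7, 8, 8], [7, 8, 7, 8, 8,
  8], [7, 8, 8, 8, 8, 8], [8, 7, 7, 6, 6, 7], [8, 7, 7, 6, 7, 7], [8, 7, 7, 6, 7, 8], [8, 7, 7, 7, 7, 7], [8, 7, 7, 7, 7, 8], [8, 7, 7, 7, 8, 8], [8,
  7, 8, 7, 7, 7], [8, 7, 8, 7, 7, 8], [8, 7, 8, 7, 8, 8], [8, 7, 8, 8, 8, 8], [8, 8, 7, 7, 7, 7], [8, 8, 7, 7, 7, 8], [8, 8, 7, 7, 8, 8], [8, 8, 7, 8,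
  8, 8], [8, 8, 8, 7, 7, 7], [8, 8, 8, 7, 7, 8], [8, 8, 8, 7, 8, 8], [8, 8, 8, 8, 7, 7], [8, 8, 8, 8, 7, 8], [8, 8, 8, 8, 8, 7], [8, 8, 8, 8, 8, 9],
  [8, 8, 8, 8, 9, 8], [8, 8, 8, 8, 9, 9], [8, 8, 8, 9, 8, 8], [8, 8, 8, 9, 9, 8], [8, 8, 8, 9, 9, 9], [8, 8, 9, 8, 8, 8], [8, 8, 9, 9, 8, 8], [8, 8,
  9, 9, 9, 8], [8, 8, 9, 9, 9, 9], [8, 9, 8, 8, 8, 8], [8, 9, 8, 9, 8, 8], [8, 9, 8, 9, 9, 8], [8, 9, 8, 9, 9, 9], [8, 9, 9, 9, 8, 8], [8, 9, 9, 9, 9,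
  8], [8, 9, 9, 9, 9, 9], [8, 9, 9, 10, 9, 8], [8, 9, 9, 10, 9, 9], [8, 9, 9, 10, 10, 9], [9, 8, 8, 8, 8, 8], [9, 8, 9, 8, 8, 8], [9, 8, 9, 9, 8, 8],
  [9, 8, 9, 9, 9, 8], [9, 8, 9, 9, 9, 9], [9, 9, 9, 9, 8, 8], [9, 9, 9, 9, 9, 8], [9, 9, 9, 9, 9, 9], [9, 9, 9, 10, 9, 8], [9, 9, 9, 10, 9, 9], [9, 9,
  9, 10, 10, 9], [9, 9, 10, 10, 9, 8], [9, 9, 10, 10, 9, 9], [9, 9, 10, 10, 10, 9], [9, 9, 10, 11, 10, 9], [9, 10, 10, 11, 10, 9]]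

/-- normal forms -/
def t1E6 : List (List ℕ) :=
  [[8, 8, 8, 8, 8, 8], [8, 9, 8, 8, 8, 8], [8, 9, 8, 9, 8, 8], [8, 9, 8, 9, 9, 8], [8, 9, 8, 9, 9, 9], [8, 9, 9, 9, 8, 8], [8, 9, 9, 9, 9, 8], [8, 9,
  9, 9, 9, 9], [8, 9, 9, 10, 9, 8], [8, 9, 9, 10, 9, 9], [8, 9, 9, 10, 10, 9], [8, 10, 9, 10, 9, 8], [8, 10, 9, 10, 9, 9], [8, 10, 9, 10, 10, 9], [8,
  10, 9, 11, 10, 9], [8, 10, 10, 11, 10, 9], [9, 9, 9, 9, 8, 8], [9, 9, 9, 9, 9, 8], [9, 9, 9, 9, 9, 9], [9, 9, 9, 10, 9, 8], [9, 9, 9, 10, 9, 9], [9,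
  9, 9, 10, 10, 9], [9, 9, 10, 10, 9, 8], [9, 9, 10, 10, 9, 9], [9, 9, 10, 10, 10, 9], [9, 9, 10, 11, 10, 9], [9, 10, 9, 10, 9, 8], [9, 10, 9, 10, 9,
  9], [9, 10, 9, 10, 10, 9], [9, 10, 9, 11, 10, 9], [9, 10, 10, 10, 9, 8], [9, 10, 10, 10, 9, 9], [9, 10, 10, 10, 10, 9], [9, 10, 10, 11, 9, 8], [9,
  10, 10, 11, 9, 9], [9, 10, 10, 11, 10, 8], [8, 8, 8, 8, 8, 9], [8, 8, 8, 8, 9, 8], [8, 8, 8, 8, 9, 9], [8, 8, 8, 9, 8, 8], [8, 8, 8, 9, 9, 8], [8,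
  8, 8, 9, 9, 9], [8, 8, 9, 8, 8, 8], [8, 8, 9, 9, 8, 8], [8, 8, 9, 9, 9, 8], [8, 8, 9, 9, 9, 9], [8, 9, 8, 8, 8, 8], [8, 9, 8, 9, 8, 8], [8, 9, 8, 9,
  9, 8], [8, 9, 8, 9, 9, 9], [8, 9, 9, 9, 8, 8], [8, 9, 9, 9, 9, 8], [8, 9, 9, 9, 9, 9], [8, 9, 9, 10, 9, 8], [8, 9, 9, 10, 9, 9], [8, 9, 9, 10, 10,
  9], [9, 8, 8, 8, 8, 8], [9, 8, 9, 8, 8, 8], [9, 8, 9, 9, 8, 8], [9, 8, 9, 9, 9, 8], [9, 8, 9, 9, 9, 9], [9, 9, 9, 9, 8, 8], [9, 9, 9, 9, 9, 8], [9,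
  9, 9, 9, 9, 9], [9, 9, 9, 10, 9, 8], [9, 9, 9, 10, 9, 9], [9, 9, 9, 10, 10, 9], [9, 9, 10, 10, 9, 8], [9, 9, 10, 10, 9, 9], [9, 9, 10, 10, 10, 9],
  [9, 9, 10, 11, 10, 9], [9, 10, 10, 11, 10, 9]]

/-- the triples (gcd, number of roots, rank bound) -/
def t3E6 : List (ℕ × ℕ × ℕ) :=
  [(1, 8, 6), (1, 16, 6), (1, 32, 6), (2, 4, 4), (2, 4, 6), (2, 6, 3), (2, 6, 6), (2, 8, 3), (2, 8, 6), (2, 10, 2), (2, 10, 6), (2, 14, 1), (2, 14,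
  2), (2, 14, 6), (2, 18, 6), (2, 20, 2), (2, 20, 6), (2, 22, 1), (2, 22, 6), (2, 30, 1), (2, 30, 6), (2, 40, 1), (2, 40, 6), (4, 12, 3), (4, 12, 6),
  (6, 6, 4), (6, 6, 6), (6, 12, 2), (6, 12, 6), (6, 24, 2), (10, 2, 5), (10, 2, 6), (72, 0, 6)]

/-- the pairs (multiple of the order, number of roots) -/
def tpE6 : List (ℕ × ℕ) :=
  [(1, 16), (1, 32), (2, 4), (2, 8), (2, 10), (2, 14), (2, 18), (2, 20), (2, 22), (2, 30), (2, 40), (4, 12), (6, 6), (6, 12), (6, 24), (8, 0), (10,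
  2), (12, 0), (18, 0)]

theorem eE6 : (∀ i, hr chevE6 6 i ≤ 7) ∧ tb chevE6 6 false = t0E6 ∧ tb chevE6 6 true = t1E6 ∧ dg (0 : Fin 6 → ℤ) = [8, 8, 8, 8, 8, 8] ∧
    dg (hz chevE6 6 false) = [8, 8, 8, 8, 8, 8] ∧ dg (hz chevE6 6 true) = [9, 10, 10, 11, 10, 9] ∧ chevE6.nroots = 72 := by decide +kernel

theorem c0E6 : (masks 6).all (chk t0E6 [8, 8, 8, 8, 8, 8] [8, 8, 8, 8, 8, 8] false 72 6 t3E6) = true := by decide +kernel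

theorem c1E6 : (masks 6).all (chk t1E6 [8, 8, 8, 8, 8, 8] [9, 10, 10, 11, 10, 9] true 72 6 t3E6) = true := by decide +kernel

theorem okE6 : OK chevE6 6 t3E6 := ok_of eE6 c0E6 c1E6

theorem redE6 : Red t3E6 tpE6 := by decide +kernel

/-- normal forms -/
def t0E7 : List (List ℕ) :=
  [[6, 6, 5, 4, 5, 6, 7], [7, 6, 5, 4, 5, 6, 7], [7, 6, 6, 4, 5, 6, 7], [7, 6, 6, 5, 5, 6, 7], [7, 6, 6, 5, 6, 6, 7], [7, 6, 6, 5, 6, 7, 7], [7, 6, 6,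
  5, 6, 7, 8], [7, 7, 6, 5, 5, 6, 7], [7, 7, 6, 5, 6, 6, 7], [7, 7, 6, 5, 6, 7, 7], [7, 7, 6, 5, 6, 7, 8], [7, 7, 6, 6, 6, 6, 7], [7, 7, 6, 6, 6, 7,
  7], [7, 7, 6, 6, 6, 7, 8], [7, 7, 6, 6, 7, 7, 7], [7, 7, 6, 6, 7, 7, 8], [7, 7, 6, 6, 7, 8, 8], [7, 7, 7, 6, 6, 6, 7], [7, 7, 7, 6, 6, 7, 7], [7, 7,
  7, 6, 6, 7, 8], [7, 7, 7, 6, 7, 7, 7], [7, 7, 7, 6, 7, 7, 8], [7, 7, 7, 6, 7, 8, 8], [7, 7, 7, 7, 7, 7, 7], [7, 7, 7, 7, 7, 7, 8], [7, 7, 7, 7, 7,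
  8, 8], [7, 7, 7, 7, 8, 8, 8], [7, 8, 7, 7, 7, 7, 7], [7, 8, 7, 7, 7, 7, 8], [7, 8, 7, 7, 7, 8, 8], [7, 8, 7, 7, 8, 8, 8], [7, 8, 7, 8, 8, 8, 8], [7,
  8, 8, 8, 8, 8, 8], [8, 7, 7, 6, 6, 6, 7], [8, 7, 7, 6, 6, 7, 7], [8, 7, 7, 6, 6, 7, 8], [8, 7, 7, 6, 7, 7, 7], [8, 7, 7, 6, 7, 7, 8], [8, 7, 7, 6,
  7, 8, 8], [8, 7, 7, 7, 7, 7, 7], [8, 7, 7, 7, 7, 7, 8], [8, 7, 7, 7, 7, 8, 8], [8, 7, 7, 7, 8, 8, 8], [8, 7, 8, 7, 7, 7, 7], [8, 7, 8, 7, 7, 7, 8],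
  [8, 7, 8, 7, 7, 8, 8], [8, 7, 8, 7, 8, 8, 8], [8, 7, 8, 8, 8, 8, 8], [8, 8, 7, 7, 7, 7, 7], [8, 8, 7, 7, 7, 7, 8], [8, 8, 7, 7, 7, 8, 8], [8, 8, 7,
  7, 8, 8, 8], [8, 8, 7, 8, 8, 8, 8], [8, 8, 8, 7, 7, 7, 7], [8, 8, 8, 7, 7, 7, 8], [8, 8, 8, 7, 7, 8, 8], [8, 8, 8, 7, 8, 8, 8], [8, 8, 8, 8, 7, 7,
  7], [8, 8, 8, 8, 7, 7, 8], [8, 8, 8, 8, 7, 8, 8], [8, 8, 8, 8, 8, 7, 7], [8, 8, 8, 8, 8, 7, 8], [8, 8, 8, 8, 8, 8, 7], [8, 8, 8, 8, 8, 8, 9], [8, 8,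
  8, 8, 8, 9, 8], [8, 8, 8, 8, 8, 9, 9], [8, 8, 8, 8, 9, 8, 8], [8, 8, 8, 8, 9, 9, 8], [8, 8, 8, 8, 9, 9, 9], [8, 8, 8, 9, 8, 8, 8], [8, 8, 8, 9, 9,
  8, 8], [8, 8, 8, 9, 9, 9, 8], [8, 8, 8, 9, 9, 9, 9], [8, 8, 9, 8, 8, 8, 8], [8, 8, 9, 9, 8, 8, 8], [8, 8, 9, 9, 9, 8, 8], [8, 8, 9, 9, 9, 9, 8], [8,
  8, 9, 9, 9, 9, 9], [8, 9, 8, 8, 8, 8, 8], [8, 9, 8, 9, 8, 8, 8], [8, 9, 8, 9, 9, 8, 8], [8, 9, 8, 9, 9, 9, 8], [8, 9, 8, 9, 9, 9, 9], [8, 9, 9, 9,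
  8, 8, 8], [8, 9, 9, 9, 9, 8, 8], [8, 9, 9, 9, 9, 9, 8], [8, 9, 9, 9, 9, 9, 9], [8, 9, 9, 10, 9, 8, 8], [8, 9, 9, 10, 9, 9, 8], [8, 9, 9, 10, 9, 9,
  9], [8, 9, 9, 10, 10, 9, 8], [8, 9, 9, 10, 10, 9, 9], [8, 9, 9, 10, 10, 10, 9], [9, 8, 8, 8, 8, 8, 8], [9, 8, 9, 8, 8, 8, 8], [9, 8, 9, 9, 8, 8, 8],
  [9, 8, 9, 9, 9, 8, 8], [9, 8, 9, 9, 9, 9, 8], [9, 8, 9, 9, 9, 9, 9], [9, 9, 9, 9, 8, 8, 8], [9, 9, 9, 9, 9, 8, 8], [9, 9, 9, 9, 9, 9, 8], [9, 9, 9,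
  9, 9, 9, 9], [9, 9, 9, 10, 9, 8, 8], [9, 9, 9, 10, 9, 9, 8], [9, 9, 9, 10, 9, 9, 9], [9, 9, 9, 10, 10, 9, 8], [9, 9, 9, 10, 10, 9, 9], [9, 9, 9, 10,
  10, 10, 9], [9, 9, 10, 10, 9, 8, 8], [9, 9, 10, 10, 9, 9, 8], [9, 9, 10, 10, 9, 9, 9], [9, 9, 10, 10, 10, 9, 8], [9, 9, 10, 10, 10, 9, 9], [9, 9,
  10, 10, 10, 10, 9], [9, 9, 10, 11, 10, 9, 8], [9, 9, 10, 11, 10, 9, 9], [9, 9, 10, 11, 10, 10, 9], [9, 9, 10, 11, 11, 10, 9], [9, 10, 10, 11, 10, 9,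
  8], [9, 10, 10, 11, 10, 9, 9], [9, 10, 10, 11, 10, 10, 9], [9, 10, 10, 11, 11, 10, 9], [9, 10, 10, 12, 11, 10, 9], [9, 10, 11, 12, 11, 10, 9], [10,
  10, 11, 12, 11, 10, 9]]

/-- normal forms -/
def t1E7 : List (List ℕ) :=
  [[8, 8, 8, 8, 8, 8, 8], [9, 8, 8, 8, 8, 8, 8], [9, 8, 9, 8, 8, 8, 8], [9, 8, 9, 9, 8, 8, 8], [9, 8, 9, 9, 9, 8, 8], [9, 8, 9, 9, 9, 9, 8], [9, 8, 9,
  9, 9, 9, 9], [9, 9, 9, 9, 8, 8, 8], [9, 9, 9, 9, 9, 8, 8], [9, 9, 9, 9, 9, 9, 8], [9, 9, 9, 9, 9, 9, 9], [9, 9, 9, 10, 9, 8, 8], [9, 9, 9, 10, 9, 9,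
  8], [9, 9, 9, 10, 9, 9, 9], [9, 9, 9, 10, 10, 9, 8], [9, 9, 9, 10, 10, 9, 9], [9, 9, 9, 10, 10, 10, 9], [9, 9, 10, 10, 9, 8, 8], [9, 9, 10, 10, 9,
  9, 8], [9, 9, 10, 10, 9, 9, 9], [9, 9, 10, 10, 10, 9, 8], [9, 9, 10, 10, 10, 9, 9], [9, 9, 10, 10, 10, 10, 9], [9, 9, 10, 11, 10, 9, 8], [9, 9, 10,
  11, 10, 9, 9], [9, 9, 10, 11, 10, 10, 9], [9, 9, 10, 11, 11, 10, 9], [9, 10, 10, 11, 10, 9, 8], [9, 10, 10, 11, 10, 9, 9], [9, 10, 10, 11, 10, 10,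
  9], [9, 10, 10, 11, 11, 10, 9], [9, 10, 10, 12, 11, 10, 9], [9, 10, 11, 12, 11, 10, 9], [10, 9, 10, 10, 9, 8, 8], [10, 9, 10, 10, 9, 9, 8], [10, 9,
  10, 10, 9, 9, 9], [10, 9, 10, 10, 10, 9, 8], [10, 9, 10, 10, 10, 9, 9], [10, 9, 10, 10, 10, 10, 9], [10, 9, 10, 11, 10, 9, 8], [10, 9, 10, 11, 10,
  9, 9], [10, 9, 10, 11, 10, 10, 9], [10, 9, 10, 11, 11, 10, 9], [10, 9, 11, 11, 10, 9, 8], [10, 9, 11, 11, 10, 9, 9], [10, 9, 11, 11, 10, 10, 9],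
  [10, 9, 11, 11, 11, 10, 9], [10, 9, 11, 12, 11, 10, 9], [10, 10, 10, 11, 10, 9, 8], [10, 10, 10, 11, 10, 9, 9], [10, 10, 10, 11, 10, 10, 9], [10,
  10, 10, 11, 11, 10, 9], [10, 10, 10, 12, 11, 10, 9], [10, 10, 11, 11, 10, 9, 8], [10, 10, 11, 11, 10, 9, 9], [10, 10, 11, 11, 10, 10, 9], [10, 10,
  11, 11, 11, 10, 9], [10, 10, 11, 12, 10, 9, 8], [10, 10, 11, 12, 10, 9, 9], [10, 10, 11, 12, 10, 10, 9], [10, 10, 11, 12, 11, 9, 8], [10, 10, 11,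
  12, 11, 9, 9], [10, 10, 11, 12, 11, 10, 8], [8, 8, 8, 8, 8, 8, 9], [8, 8, 8, 8, 8, 9, 8], [8, 8, 8, 8, 8, 9, 9], [8, 8, 8, 8, 9, 8, 8], [8, 8, 8, 8,
  9, 9, 8], [8, 8, 8, 8, 9, 9, 9], [8, 8, 8, 9, 8, 8, 8], [8, 8, 8, 9, 9, 8, 8], [8, 8, 8, 9, 9, 9, 8], [8, 8, 8, 9, 9, 9, 9], [8, 8, 9, 8, 8, 8, 8],
  [8, 8, 9, 9, 8, 8, 8], [8, 8, 9, 9, 9, 8, 8], [8, 8, 9, 9, 9, 9, 8], [8, 8, 9, 9, 9, 9, 9], [8, 9, 8, 8, 8, 8, 8], [8, 9, 8, 9, 8, 8, 8], [8, 9, 8,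
  9, 9, 8, 8], [8, 9, 8, 9, 9, 9, 8], [8, 9, 8, 9, 9, 9, 9], [8, 9, 9, 9, 8, 8, 8], [8, 9, 9, 9, 9, 8, 8], [8, 9, 9, 9, 9, 9, 8], [8, 9, 9, 9, 9, 9,
  9], [8, 9, 9, 10, 9, 8, 8], [8, 9, 9, 10, 9, 9, 8], [8, 9, 9, 10, 9, 9, 9], [8, 9, 9, 10, 10, 9, 8], [8, 9, 9, 10, 10, 9, 9], [8, 9, 9, 10, 10, 10,
  9], [9, 8, 8, 8, 8, 8, 8], [9, 8, 9, 8, 8, 8, 8], [9, 8, 9, 9, 8, 8, 8], [9, 8, 9, 9, 9, 8, 8], [9, 8, 9, 9, 9, 9, 8], [9, 8, 9, 9, 9, 9, 9], [9, 9,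
  9, 9, 8, 8, 8], [9, 9, 9, 9, 9, 8, 8], [9, 9, 9, 9, 9, 9, 8], [9, 9, 9, 9, 9, 9, 9], [9, 9, 9, 10, 9, 8, 8], [9, 9, 9, 10, 9, 9, 8], [9, 9, 9, 10,
  9, 9, 9], [9, 9, 9, 10, 10, 9, 8], [9, 9, 9, 10, 10, 9, 9], [9, 9, 9, 10, 10, 10, 9], [9, 9, 10, 10, 9, 8, 8], [9, 9, 10, 10, 9, 9, 8], [9, 9, 10,
  10, 9, 9, 9], [9, 9, 10, 10, 10, 9, 8], [9, 9, 10, 10, 10, 9, 9], [9, 9, 10, 10, 10, 10, 9], [9, 9, 10, 11, 10, 9, 8], [9, 9, 10, 11, 10, 9, 9], [9,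
  9, 10, 11, 10, 10, 9], [9, 9, 10, 11, 11, 10, 9], [9, 10, 10, 11, 10, 9, 8], [9, 10, 10, 11, 10, 9, 9], [9, 10, 10, 11, 10, 10, 9], [9, 10, 10, 11,
  11, 10, 9], [9, 10, 10, 12, 11, 10, 9], [9, 10, 11, 12, 11, 10, 9], [10, 10, 11, 12, 11, 10, 9]]

/-- the triples (gcd, number of roots, rank bound) -/
def t3E7 : List (ℕ × ℕ × ℕ) :=
  [(1, 8, 7), (1, 10, 7), (1, 16, 7), (1, 18, 7), (1, 24, 7), (1, 26, 7), (1, 28, 7), (1, 32, 7), (1, 56, 7), (1, 62, 7), (2, 4, 5), (2, 4, 7), (2, 6,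
  4), (2, 6, 7), (2, 8, 3), (2, 8, 4), (2, 8, 7), (2, 10, 3), (2, 10, 7), (2, 12, 3), (2, 12, 4), (2, 12, 7), (2, 14, 2), (2, 14, 3), (2, 14, 7), (2,
  16, 2), (2, 16, 7), (2, 18, 2), (2, 18, 7), (2, 20, 1), (2, 20, 3), (2, 20, 7), (2, 22, 2), (2, 22, 7), (2, 26, 1), (2, 26, 7), (2, 30, 2), (2, 30,
  7), (2, 32, 1), (2, 32, 7), (2, 36, 7), (2, 40, 2), (2, 42, 1), (2, 42, 7), (2, 60, 1), (2, 60, 7), (2, 72, 1), (4, 2, 6), (4, 2, 7), (4, 26, 2),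
  (4, 26, 7), (6, 12, 2), (6, 12, 7), (6, 24, 3), (6, 30, 2), (6, 30, 7), (24, 6, 4), (24, 6, 7), (30, 6, 5), (30, 6, 7), (126, 0, 7)]

/-- the pairs (multiple of the order, number of roots) -/
def tpE7 : List (ℕ × ℕ) :=
  [(1, 28), (1, 56), (1, 62), (2, 4), (2, 8), (2, 10), (2, 14), (2, 16), (2, 18), (2, 20), (2, 22), (2, 32), (2, 36), (2, 40), (2, 42), (2, 60), (2,
  72), (4, 2), (4, 26), (6, 12), (6, 24), (6, 30), (8, 6), (10, 6), (12, 6), (14, 0), (18, 0)]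

theorem eE7 : (∀ i, hr chevE7 7 i ≤ 7) ∧ tb chevE7 7 false = t0E7 ∧ tb chevE7 7 true = t1E7 ∧ dg (0 : Fin 7 → ℤ) = [8, 8, 8, 8, 8, 8, 8] ∧
    dg (hz chevE7 7 false) = [8, 8, 8, 8, 8, 8, 8] ∧ dg (hz chevE7 7 true) = [10, 10, 11, 12, 11, 10, 9] ∧ chevE7.nroots = 126 := by decide +kernel

theorem c0E7_0 : (masks 6).all (fun m => chk t0E7 [8, 8, 8, 8, 8, 8, 8] [8, 8, 8, 8, 8, 8, 8] false 126 7 t3E7 (0 :: m)) = true := by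
  decide +kernel

theorem c0E7_1 : (masks 6).all (fun m => chk t0E7 [8, 8, 8, 8, 8, 8, 8] [8, 8, 8, 8, 8, 8, 8] false 126 7 t3E7 (1 :: m)) = true := by
  decide +kernel

theorem c0E7 : (masks 7).all (chk t0E7 [8, 8, 8, 8, 8, 8, 8] [8, 8, 8, 8, 8, 8, 8] false 126 7 t3E7) = true :=
  all_succ c0E7_0 c0E7_1

theorem c1E7_0 : (masks 6).all (fun m => chk t1E7 [8, 8, 8, 8, 8, 8, 8] [10, 10, 11, 12, 11, 10, 9] true 126 7 t3E7 (0 :: m)) = true := by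
  decide +kernel

theorem c1E7_1 : (masks 6).all (fun m => chk t1E7 [8, 8, 8, 8, 8, 8, 8] [10, 10, 11, 12, 11, 10, 9] true 126 7 t3E7 (1 :: m)) = true := by
  decide +kernel

theorem c1E7 : (masks 7).all (chk t1E7 [8, 8, 8, 8, 8, 8, 8] [10, 10, 11, 12, 11, 10, 9] true 126 7 t3E7) = true :=
  all_succ c1E7_0 c1E7_1

theorem okE7 : OK chevE7 7 t3E7 := ok_of eE7 c0E7 c1E7

theorem redE7 : Red t3E7 tpE7 := by decide +kernel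

end Cfsg.Agent.N2.Ex.Cb
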