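import Cfsg.Agent.N2.Ex.Cb.Chk

/-!
# N2, exceptional groups: the tables of classes of roots, `E₈` (helper37)
-/

set_option autoImplicit false
set_option maxRecDepth 100000

namespace Cfsg.Agent.N2.Ex.Cb

open Cfsg Cfsg.Lie Cfsg.Agent.H931.KC

/-- normal forms -/
def t0E8 : List (List ℕ) :=
  [[6, 5, 4, 2, 3, 4, 5, 6], [6, 5, 4, 2, 3, 4, 5, 7], [6, 5, 4, 2, 3, 4, 6, 7], [6, 5, 4, 2, 3, 5, 6, 7], [6, 5, 4, 2, 4, 5, 6, 7], [6, 5, 4, 3, 4,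
  5, 6, 7], [6, 5, 5, 3, 4, 5, 6, 7], [6, 6, 4, 3, 4, 5, 6, 7], [6, 6, 5, 3, 4, 5, 6, 7], [6, 6, 5, 4, 4, 5, 6, 7], [6, 6, 5, 4, 5, 5, 6, 7], [6, 6,
  5, 4, 5, 6, 6, 7], [6, 6, 5, 4, 5, 6, 7, 7], [6, 6, 5, 4, 5, 6, 7, 8], [7, 5, 5, 3, 4, 5, 6, 7], [7, 6, 5, 3, 4, 5, 6, 7], [7, 6, 5, 4, 4, 5, 6, 7],
  [7, 6, 5, 4, 5, 5, 6, 7], [7, 6, 5, 4, 5, 6, 6, 7], [7, 6, 5, 4, 5, 6, 7, 7], [7, 6, 5, 4, 5, 6, 7, 8], [7, 6, 6, 4, 4, 5, 6, 7], [7, 6, 6, 4, 5, 5,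
  6, 7], [7, 6, 6, 4, 5, 6, 6, 7], [7, 6, 6, 4, 5, 6, 7, 7], [7, 6, 6, 4, 5, 6, 7, 8], [7, 6, 6, 5, 5, 5, 6, 7], [7, 6, 6, 5, 5, 6, 6, 7], [7, 6, 6,
  5, 5, 6, 7, 7], [7, 6, 6, 5, 5, 6, 7, 8], [7, 6, 6, 5, 6, 6, 6, 7], [7, 6, 6, 5, 6, 6, 7, 7], [7, 6, 6, 5, 6, 6, 7, 8], [7, 6, 6, 5, 6, 7, 7, 7],
  [7, 6, 6, 5, 6, 7, 7, 8], [7, 6, 6, 5, 6, 7, 8, 8], [7, 7, 6, 5, 5, 5, 6, 7], [7, 7, 6, 5, 5, 6, 6, 7], [7, 7, 6, 5, 5, 6, 7, 7], [7, 7, 6, 5, 5, 6,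
  7, 8], [7, 7, 6, 5, 6, 6, 6, 7], [7, 7, 6, 5, 6, 6, 7, 7], [7, 7, 6, 5, 6, 6, 7, 8], [7, 7, 6, 5, 6, 7, 7, 7], [7, 7, 6, 5, 6, 7, 7, 8], [7, 7, 6,
  5, 6, 7, 8, 8], [7, 7, 6, 6, 6, 6, 6, 7], [7, 7, 6, 6, 6, 6, 7, 7], [7, 7, 6, 6, 6, 6, 7, 8], [7, 7, 6, 6, 6, 7, 7, 7], [7, 7, 6, 6, 6, 7, 7, 8],
  [7, 7, 6, 6, 6, 7, 8, 8], [7, 7, 6, 6, 7, 7, 7, 7], [7, 7, 6, 6, 7, 7, 7, 8], [7, 7, 6, 6, 7, 7, 8, 8], [7, 7, 6, 6, 7, 8, 8, 8], [7, 7, 7, 6, 6, 6,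
  6, 7], [7, 7, 7, 6, 6, 6, 7, 7], [7, 7, 7, 6, 6, 6, 7, 8], [7, 7, 7, 6, 6, 7, 7, 7], [7, 7, 7, 6, 6, 7, 7, 8], [7, 7, 7, 6, 6, 7, 8, 8], [7, 7, 7,
  6, 7, 7, 7, 7], [7, 7, 7, 6, 7, 7, 7, 8], [7, 7, 7, 6, 7, 7, 8, 8], [7, 7, 7, 6, 7, 8, 8, 8], [7, 7, 7, 7, 7, 7, 7, 7], [7, 7, 7, 7, 7, 7, 7, 8],
  [7, 7, 7, 7, 7, 7, 8, 8], [7, 7, 7, 7, 7, 8, 8, 8], [7, 7, 7, 7, 8, 8, 8, 8], [7, 8, 7, 7, 7, 7, 7, 7], [7, 8, 7, 7, 7, 7, 7, 8], [7, 8, 7, 7, 7, 7,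
  8, 8], [7, 8, 7, 7, 7, 8, 8, 8], [7, 8, 7, 7, 8, 8, 8, 8], [7, 8, 7, 8, 8, 8, 8, 8], [7, 8, 8, 8, 8, 8, 8, 8], [8, 7, 7, 6, 6, 6, 6, 7], [8, 7, 7,
  6, 6, 6, 7, 7], [8, 7, 7, 6, 6, 6, 7, 8], [8, 7, 7, 6, 6, 7, 7, 7], [8, 7, 7, 6, 6, 7, 7, 8], [8, 7, 7, 6, 6, 7, 8, 8], [8, 7, 7, 6, 7, 7, 7, 7],
  [8, 7, 7, 6, 7, 7, 7, 8], [8, 7, 7, 6, 7, 7, 8, 8], [8, 7, 7, 6, 7, 8, 8, 8], [8, 7, 7, 7, 7, 7, 7, 7], [8, 7, 7, 7, 7, 7, 7, 8], [8, 7, 7, 7, 7, 7,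
  8, 8], [8, 7, 7, 7, 7, 8, 8, 8], [8, 7, 7, 7, 8, 8, 8, 8], [8, 7, 8, 7, 7, 7, 7, 7], [8, 7, 8, 7, 7, 7, 7, 8], [8, 7, 8, 7, 7, 7, 8, 8], [8, 7, 8,
  7, 7, 8, 8, 8], [8, 7, 8, 7, 8, 8, 8, 8], [8, 7, 8, 8, 8, 8, 8, 8], [8, 8, 7, 7, 7, 7, 7, 7], [8, 8, 7, 7, 7, 7, 7, 8], [8, 8, 7, 7, 7, 7, 8, 8],
  [8, 8, 7, 7, 7, 8, 8, 8], [8, 8, 7, 7, 8, 8, 8, 8], [8, 8, 7, 8, 8, 8, 8, 8], [8, 8, 8, 7, 7, 7, 7, 7], [8, 8, 8, 7, 7, 7, 7, 8], [8, 8, 8, 7, 7, 7,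
  8, 8], [8, 8, 8, 7, 7, 8, 8, 8], [8, 8, 8, 7, 8, 8, 8, 8], [8, 8, 8, 8, 7, 7, 7, 7], [8, 8, 8, 8, 7, 7, 7, 8], [8, 8, 8, 8, 7, 7, 8, 8], [8, 8, 8,
  8, 7, 8, 8, 8], [8, 8, 8, 8, 8, 7, 7, 7], [8, 8, 8, 8, 8, 7, 7, 8], [8, 8, 8, 8, 8, 7, 8, 8], [8, 8, 8, 8, 8, 8, 7, 7], [8, 8, 8, 8, 8, 8, 7, 8],
  [8, 8, 8, 8, 8, 8, 8, 7], [8, 8, 8, 8, 8, 8, 8, 9], [8, 8, 8, 8, 8, 8, 9, 8], [8, 8, 8, 8, 8, 8, 9, 9], [8, 8, 8, 8, 8, 9, 8, 8], [8, 8, 8, 8, 8, 9,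
  9, 8], [8, 8, 8, 8, 8, 9, 9, 9], [8, 8, 8, 8, 9, 8, 8, 8], [8, 8, 8, 8, 9, 9, 8, 8], [8, 8, 8, 8, 9, 9, 9, 8], [8, 8, 8, 8, 9, 9, 9, 9], [8, 8, 8,
  9, 8, 8, 8, 8], [8, 8, 8, 9, 9, 8, 8, 8], [8, 8, 8, 9, 9, 9, 8, 8], [8, 8, 8, 9, 9, 9, 9, 8], [8, 8, 8, 9, 9, 9, 9, 9], [8, 8, 9, 8, 8, 8, 8, 8],
  [8, 8, 9, 9, 8, 8, 8, 8], [8, 8, 9, 9, 9, 8, 8, 8], [8, 8, 9, 9, 9, 9, 8, 8], [8, 8, 9, 9, 9, 9, 9, 8], [8, 8, 9, 9, 9, 9, 9, 9], [8, 9, 8, 8, 8, 8,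
  8, 8], [8, 9, 8, 9, 8, 8, 8, 8], [8, 9, 8, 9, 9, 8, 8, 8], [8, 9, 8, 9, 9, 9, 8, 8], [8, 9, 8, 9, 9, 9, 9, 8], [8, 9, 8, 9, 9, 9, 9, 9], [8, 9, 9,
  9, 8, 8, 8, 8], [8, 9, 9, 9, 9, 8, 8, 8], [8, 9, 9, 9, 9, 9, 8, 8], [8, 9, 9, 9, 9, 9, 9, 8], [8, 9, 9, 9, 9, 9, 9, 9], [8, 9, 9, 10, 9, 8, 8, 8],
  [8, 9, 9, 10, 9, 9, 8, 8], [8, 9, 9, 10, 9, 9, 9, 8], [8, 9, 9, 10, 9, 9, 9, 9], [8, 9, 9, 10, 10, 9, 8, 8], [8, 9, 9, 10, 10, 9, 9, 8], [8, 9, 9,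
  10, 10, 9, 9, 9], [8, 9, 9, 10, 10, 10, 9, 8], [8, 9, 9, 10, 10, 10, 9, 9], [8, 9, 9, 10, 10, 10, 10, 9], [9, 8, 8, 8, 8, 8, 8, 8], [9, 8, 9, 8, 8,
  8, 8, 8], [9, 8, 9, 9, 8, 8, 8, 8], [9, 8, 9, 9, 9, 8, 8, 8], [9, 8, 9, 9, 9, 9, 8, 8], [9, 8, 9, 9, 9, 9, 9, 8], [9, 8, 9, 9, 9, 9, 9, 9], [9, 9,
  9, 9, 8, 8, 8, 8], [9, 9, 9, 9, 9, 8, 8, 8], [9, 9, 9, 9, 9, 9, 8, 8], [9, 9, 9, 9, 9, 9, 9, 8], [9, 9, 9, 9, 9, 9, 9, 9], [9, 9, 9, 10, 9, 8, 8,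
  8], [9, 9, 9, 10, 9, 9, 8, 8], [9, 9, 9, 10, 9, 9, 9, 8], [9, 9, 9, 10, 9, 9, 9, 9], [9, 9, 9, 10, 10, 9, 8, 8], [9, 9, 9, 10, 10, 9, 9, 8], [9, 9,
  9, 10, 10, 9, 9, 9], [9, 9, 9, 10, 10, 10, 9, 8], [9, 9, 9, 10, 10, 10, 9, 9], [9, 9, 9, 10, 10, 10, 10, 9], [9, 9, 10, 10, 9, 8, 8, 8], [9, 9, 10,
  10, 9, 9, 8, 8], [9, 9, 10, 10, 9, 9, 9, 8], [9, 9, 10, 10, 9, 9, 9, 9], [9, 9, 10, 10, 10, 9, 8, 8], [9, 9, 10, 10, 10, 9, 9, 8], [9, 9, 10, 10,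
  10, 9, 9, 9], [9, 9, 10, 10, 10, 10, 9, 8], [9, 9, 10, 10, 10, 10, 9, 9], [9, 9, 10, 10, 10, 10, 10, 9], [9, 9, 10, 11, 10, 9, 8, 8], [9, 9, 10, 11,
  10, 9, 9, 8], [9, 9, 10, 11, 10, 9, 9, 9], [9, 9, 10, 11, 10, 10, 9, 8], [9, 9, 10, 11, 10, 10, 9, 9], [9, 9, 10, 11, 10, 10, 10, 9], [9, 9, 10, 11,
  11, 10, 9, 8], [9, 9, 10, 11, 11, 10, 9, 9], [9, 9, 10, 11, 11, 10, 10, 9], [9, 9, 10, 11, 11, 11, 10, 9], [9, 10, 10, 11, 10, 9, 8, 8], [9, 10, 10,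
  11, 10, 9, 9, 8], [9, 10, 10, 11, 10, 9, 9, 9], [9, 10, 10, 11, 10, 10, 9, 8], [9, 10, 10, 11, 10, 10, 9, 9], [9, 10, 10, 11, 10, 10, 10, 9], [9,
  10, 10, 11, 11, 10, 9, 8], [9, 10, 10, 11, 11, 10, 9, 9], [9, 10, 10, 11, 11, 10, 10, 9], [9, 10, 10, 11, 11, 11, 10, 9], [9, 10, 10, 12, 11, 10, 9,
  8], [9, 10, 10, 12, 11, 10, 9, 9], [9, 10, 10, 12, 11, 10, 10, 9], [9, 10, 10, 12, 11, 11, 10, 9], [9, 10, 10, 12, 12, 11, 10, 9], [9, 10, 11, 12,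
  11, 10, 9, 8], [9, 10, 11, 12, 11, 10, 9, 9], [9, 10, 11, 12, 11, 10, 10, 9], [9, 10, 11, 12, 11, 11, 10, 9], [9, 10, 11, 12, 12, 11, 10, 9], [9,
  10, 11, 13, 12, 11, 10, 9], [9, 11, 11, 13, 12, 11, 10, 9], [10, 10, 11, 12, 11, 10, 9, 8], [10, 10, 11, 12, 11, 10, 9, 9], [10, 10, 11, 12, 11, 10,
  10, 9], [10, 10, 11, 12, 11, 11, 10, 9], [10, 10, 11, 12, 12, 11, 10, 9], [10, 10, 11, 13, 12, 11, 10, 9], [10, 10, 12, 13, 12, 11, 10, 9], [10, 11,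
  11, 13, 12, 11, 10, 9], [10, 11, 12, 13, 12, 11, 10, 9], [10, 11, 12, 14, 12, 11, 10, 9], [10, 11, 12, 14, 13, 11, 10, 9], [10, 11, 12, 14, 13, 12,
  10, 9], [10, 11, 12, 14, 13, 12, 11, 9], [10, 11, 12, 14, 13, 12, 11, 10]]

/-- normal forms -/
def t1E8 : List (List ℕ) :=
  [[8, 8, 8, 8, 8, 8, 8, 8], [8, 8, 8, 8, 8, 8, 8, 9], [8, 8, 8, 8, 8, 8, 9, 9], [8, 8, 8, 8, 8, 9, 9, 9], [8, 8, 8, 8, 9, 9, 9, 9], [8, 8, 8, 9, 9,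
  9, 9, 9], [8, 8, 9, 9, 9, 9, 9, 9], [8, 9, 8, 9, 9, 9, 9, 9], [8, 9, 9, 9, 9, 9, 9, 9], [8, 9, 9, 10, 9, 9, 9, 9], [8, 9, 9, 10, 10, 9, 9, 9], [8,
  9, 9, 10, 10, 10, 9, 9], [8, 9, 9, 10, 10, 10, 10, 9], [8, 9, 9, 10, 10, 10, 10, 10], [9, 8, 9, 9, 9, 9, 9, 9], [9, 9, 9, 9, 9, 9, 9, 9], [9, 9, 9,
  10, 9, 9, 9, 9], [9, 9, 9, 10, 10, 9, 9, 9], [9, 9, 9, 10, 10, 10, 9, 9], [9, 9, 9, 10, 10, 10, 10, 9], [9, 9, 9, 10, 10, 10, 10, 10], [9, 9, 10,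
  10, 9, 9, 9, 9], [9, 9, 10, 10, 10, 9, 9, 9], [9, 9, 10, 10, 10, 10, 9, 9], [9, 9, 10, 10, 10, 10, 10, 9], [9, 9, 10, 10, 10, 10, 10, 10], [9, 9,
  10, 11, 10, 9, 9, 9], [9, 9, 10, 11, 10, 10, 9, 9], [9, 9, 10, 11, 10, 10, 10, 9], [9, 9, 10, 11, 10, 10, 10, 10], [9, 9, 10, 11, 11, 10, 9, 9], [9,
  9, 10, 11, 11, 10, 10, 9], [9, 9, 10, 11, 11, 10, 10, 10], [9, 9, 10, 11, 11, 11, 10, 9], [9, 9, 10, 11, 11, 11, 10, 10], [9, 9, 10, 11, 11, 11, 11,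
  10], [9, 10, 10, 11, 10, 9, 9, 9], [9, 10, 10, 11, 10, 10, 9, 9], [9, 10, 10, 11, 10, 10, 10, 9], [9, 10, 10, 11, 10, 10, 10, 10], [9, 10, 10, 11,
  11, 10, 9, 9], [9, 10, 10, 11, 11, 10, 10, 9], [9, 10, 10, 11, 11, 10, 10, 10], [9, 10, 10, 11, 11, 11, 10, 9], [9, 10, 10, 11, 11, 11, 10, 10], [9,
  10, 10, 11, 11, 11, 11, 10], [9, 10, 10, 12, 11, 10, 9, 9], [9, 10, 10, 12, 11, 10, 10, 9], [9, 10, 10, 12, 11, 10, 10, 10], [9, 10, 10, 12, 11, 11,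
  10, 9], [9, 10, 10, 12, 11, 11, 10, 10], [9, 10, 10, 12, 11, 11, 11, 10], [9, 10, 10, 12, 12, 11, 10, 9], [9, 10, 10, 12, 12, 11, 10, 10], [9, 10,
  10, 12, 12, 11, 11, 10], [9, 10, 10, 12, 12, 12, 11, 10], [9, 10, 11, 12, 11, 10, 9, 9], [9, 10, 11, 12, 11, 10, 10, 9], [9, 10, 11, 12, 11, 10, 10,
  10], [9, 10, 11, 12, 11, 11, 10, 9], [9, 10, 11, 12, 11, 11, 10, 10], [9, 10, 11, 12, 11, 11, 11, 10], [9, 10, 11, 12, 12, 11, 10, 9], [9, 10, 11,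
  12, 12, 11, 10, 10], [9, 10, 11, 12, 12, 11, 11, 10], [9, 10, 11, 12, 12, 12, 11, 10], [9, 10, 11, 13, 12, 11, 10, 9], [9, 10, 11, 13, 12, 11, 10,
  10], [9, 10, 11, 13, 12, 11, 11, 10], [9, 10, 11, 13, 12, 12, 11, 10], [9, 10, 11, 13, 13, 12, 11, 10], [9, 11, 11, 13, 12, 11, 10, 9], [9, 11, 11,
  13, 12, 11, 10, 10], [9, 11, 11, 13, 12, 11, 11, 10], [9, 11, 11, 13, 12, 12, 11, 10], [9, 11, 11, 13, 13, 12, 11, 10], [9, 11, 11, 14, 13, 12, 11,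
  10], [9, 11, 12, 14, 13, 12, 11, 10], [10, 10, 11, 12, 11, 10, 9, 9], [10, 10, 11, 12, 11, 10, 10, 9], [10, 10, 11, 12, 11, 10, 10, 10], [10, 10,
  11, 12, 11, 11, 10, 9], [10, 10, 11, 12, 11, 11, 10, 10], [10, 10, 11, 12, 11, 11, 11, 10], [10, 10, 11, 12, 12, 11, 10, 9], [10, 10, 11, 12, 12,
  11, 10, 10], [10, 10, 11, 12, 12, 11, 11, 10], [10, 10, 11, 12, 12, 12, 11, 10], [10, 10, 11, 13, 12, 11, 10, 9], [10, 10, 11, 13, 12, 11, 10, 10],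
  [10, 10, 11, 13, 12, 11, 11, 10], [10, 10, 11, 13, 12, 12, 11, 10], [10, 10, 11, 13, 13, 12, 11, 10], [10, 10, 12, 13, 12, 11, 10, 9], [10, 10, 12,
  13, 12, 11, 10, 10], [10, 10, 12, 13, 12, 11, 11, 10], [10, 10, 12, 13, 12, 12, 11, 10], [10, 10, 12, 13, 13, 12, 11, 10], [10, 10, 12, 14, 13, 12,
  11, 10], [10, 11, 11, 13, 12, 11, 10, 9], [10, 11, 11, 13, 12, 11, 10, 10], [10, 11, 11, 13, 12, 11, 11, 10], [10, 11, 11, 13, 12, 12, 11, 10], [10,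
  11, 11, 13, 13, 12, 11, 10], [10, 11, 11, 14, 13, 12, 11, 10], [10, 11, 12, 13, 12, 11, 10, 9], [10, 11, 12, 13, 12, 11, 10, 10], [10, 11, 12, 13,
  12, 11, 11, 10], [10, 11, 12, 13, 12, 12, 11, 10], [10, 11, 12, 13, 13, 12, 11, 10], [10, 11, 12, 14, 12, 11, 10, 9], [10, 11, 12, 14, 12, 11, 10,
  10], [10, 11, 12, 14, 12, 11, 11, 10], [10, 11, 12, 14, 12, 12, 11, 10], [10, 11, 12, 14, 13, 11, 10, 9], [10, 11, 12, 14, 13, 11, 10, 10], [10, 11,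
  12, 14, 13, 11, 11, 10], [10, 11, 12, 14, 13, 12, 10, 9], [10, 11, 12, 14, 13, 12, 10, 10], [10, 11, 12, 14, 13, 12, 11, 9], [8, 8, 8, 8, 8, 8, 8,
  9], [8, 8, 8, 8, 8, 8, 9, 8], [8, 8, 8, 8, 8, 8, 9, 9], [8, 8, 8, 8, 8, 9, 8, 8], [8, 8, 8, 8, 8, 9, 9, 8], [8, 8, 8, 8, 8, 9, 9, 9], [8, 8, 8, 8,
  9, 8, 8, 8], [8, 8, 8, 8, 9, 9, 8, 8], [8, 8, 8, 8, 9, 9, 9, 8], [8, 8, 8, 8, 9, 9, 9, 9], [8, 8, 8, 9, 8, 8, 8, 8], [8, 8, 8, 9, 9, 8, 8, 8], [8,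
  8, 8, 9, 9, 9, 8, 8], [8, 8, 8, 9, 9, 9, 9, 8], [8, 8, 8, 9, 9, 9, 9, 9], [8, 8, 9, 8, 8, 8, 8, 8], [8, 8, 9, 9, 8, 8, 8, 8], [8, 8, 9, 9, 9, 8, 8,
  8], [8, 8, 9, 9, 9, 9, 8, 8], [8, 8, 9, 9, 9, 9, 9, 8], [8, 8, 9, 9, 9, 9, 9, 9], [8, 9, 8, 8, 8, 8, 8, 8], [8, 9, 8, 9, 8, 8, 8, 8], [8, 9, 8, 9,
  9, 8, 8, 8], [8, 9, 8, 9, 9, 9, 8, 8], [8, 9, 8, 9, 9, 9, 9, 8], [8, 9, 8, 9, 9, 9, 9, 9], [8, 9, 9, 9, 8, 8, 8, 8], [8, 9, 9, 9, 9, 8, 8, 8], [8,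
  9, 9, 9, 9, 9, 8, 8], [8, 9, 9, 9, 9, 9, 9, 8], [8, 9, 9, 9, 9, 9, 9, 9], [8, 9, 9, 10, 9, 8, 8, 8], [8, 9, 9, 10, 9, 9, 8, 8], [8, 9, 9, 10, 9, 9,
  9, 8], [8, 9, 9, 10, 9, 9, 9, 9], [8, 9, 9, 10, 10, 9, 8, 8], [8, 9, 9, 10, 10, 9, 9, 8], [8, 9, 9, 10, 10, 9, 9, 9], [8, 9, 9, 10, 10, 10, 9, 8],
  [8, 9, 9, 10, 10, 10, 9, 9], [8, 9, 9, 10, 10, 10, 10, 9], [9, 8, 8, 8, 8, 8, 8, 8], [9, 8, 9, 8, 8, 8, 8, 8], [9, 8, 9, 9, 8, 8, 8, 8], [9, 8, 9,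
  9, 9, 8, 8, 8], [9, 8, 9, 9, 9, 9, 8, 8], [9, 8, 9, 9, 9, 9, 9, 8], [9, 8, 9, 9, 9, 9, 9, 9], [9, 9, 9, 9, 8, 8, 8, 8], [9, 9, 9, 9, 9, 8, 8, 8],
  [9, 9, 9, 9, 9, 9, 8, 8], [9, 9, 9, 9, 9, 9, 9, 8], [9, 9, 9, 9, 9, 9, 9, 9], [9, 9, 9, 10, 9, 8, 8, 8], [9, 9, 9, 10, 9, 9, 8, 8], [9, 9, 9, 10, 9,
  9, 9, 8], [9, 9, 9, 10, 9, 9, 9, 9], [9, 9, 9, 10, 10, 9, 8, 8], [9, 9, 9, 10, 10, 9, 9, 8], [9, 9, 9, 10, 10, 9, 9, 9], [9, 9, 9, 10, 10, 10, 9,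
  8], [9, 9, 9, 10, 10, 10, 9, 9], [9, 9, 9, 10, 10, 10, 10, 9], [9, 9, 10, 10, 9, 8, 8, 8], [9, 9, 10, 10, 9, 9, 8, 8], [9, 9, 10, 10, 9, 9, 9, 8],
  [9, 9, 10, 10, 9, 9, 9, 9], [9, 9, 10, 10, 10, 9, 8, 8], [9, 9, 10, 10, 10, 9, 9, 8], [9, 9, 10, 10, 10, 9, 9, 9], [9, 9, 10, 10, 10, 10, 9, 8], [9,
  9, 10, 10, 10, 10, 9, 9], [9, 9, 10, 10, 10, 10, 10, 9], [9, 9, 10, 11, 10, 9, 8, 8], [9, 9, 10, 11, 10, 9, 9, 8], [9, 9, 10, 11, 10, 9, 9, 9], [9,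
  9, 10, 11, 10, 10, 9, 8], [9, 9, 10, 11, 10, 10, 9, 9], [9, 9, 10, 11, 10, 10, 10, 9], [9, 9, 10, 11, 11, 10, 9, 8], [9, 9, 10, 11, 11, 10, 9, 9],
  [9, 9, 10, 11, 11, 10, 10, 9], [9, 9, 10, 11, 11, 11, 10, 9], [9, 10, 10, 11, 10, 9, 8, 8], [9, 10, 10, 11, 10, 9, 9, 8], [9, 10, 10, 11, 10, 9, 9,
  9], [9, 10, 10, 11, 10, 10, 9, 8], [9, 10, 10, 11, 10, 10, 9, 9], [9, 10, 10, 11, 10, 10, 10, 9], [9, 10, 10, 11, 11, 10, 9, 8], [9, 10, 10, 11, 11,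
  10, 9, 9], [9, 10, 10, 11, 11, 10, 10, 9], [9, 10, 10, 11, 11, 11, 10, 9], [9, 10, 10, 12, 11, 10, 9, 8], [9, 10, 10, 12, 11, 10, 9, 9], [9, 10, 10,
  12, 11, 10, 10, 9], [9, 10, 10, 12, 11, 11, 10, 9], [9, 10, 10, 12, 12, 11, 10, 9], [9, 10, 11, 12, 11, 10, 9, 8], [9, 10, 11, 12, 11, 10, 9, 9],
  [9, 10, 11, 12, 11, 10, 10, 9], [9, 10, 11, 12, 11, 11, 10, 9], [9, 10, 11, 12, 12, 11, 10, 9], [9, 10, 11, 13, 12, 11, 10, 9], [9, 11, 11, 13, 12,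
  11, 10, 9], [10, 10, 11, 12, 11, 10, 9, 8], [10, 10, 11, 12, 11, 10, 9, 9], [10, 10, 11, 12, 11, 10, 10, 9], [10, 10, 11, 12, 11, 11, 10, 9], [10,
  10, 11, 12, 12, 11, 10, 9], [10, 10, 11, 13, 12, 11, 10, 9], [10, 10, 12, 13, 12, 11, 10, 9], [10, 11, 11, 13, 12, 11, 10, 9], [10, 11, 12, 13, 12,
  11, 10, 9], [10, 11, 12, 14, 12, 11, 10, 9], [10, 11, 12, 14, 13, 11, 10, 9], [10, 11, 12, 14, 13, 12, 10, 9], [10, 11, 12, 14, 13, 12, 11, 9], [10,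
  11, 12, 14, 13, 12, 11, 10]]

/-- the triples (gcd, number of roots, rank bound) -/
def t3E8 : List (ℕ × ℕ × ℕ) :=
  [(1, 8, 8), (1, 10, 8), (1, 14, 8), (1, 16, 8), (1, 18, 8), (1, 22, 8), (1, 24, 8), (1, 26, 8), (1, 28, 8), (1, 32, 8), (1, 34, 8), (1, 36, 8), (1,
  38, 8), (1, 44, 8), (1, 52, 8), (1, 56, 8), (1, 58, 8), (1, 62, 8), (1, 112, 8), (1, 128, 8), (2, 6, 5), (2, 6, 8), (2, 8, 5), (2, 8, 8), (2, 10,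
  4), (2, 10, 8), (2, 12, 3), (2, 12, 5), (2, 12, 8), (2, 14, 3), (2, 14, 4), (2, 14, 8), (2, 16, 3), (2, 16, 8), (2, 18, 3), (2, 18, 8), (2, 20, 2),
  (2, 20, 8), (2, 22, 3), (2, 22, 8), (2, 24, 2), (2, 24, 8), (2, 26, 2), (2, 26, 3), (2, 26, 8), (2, 28, 1), (2, 28, 8), (2, 30, 3), (2, 30, 8), (2,
  32, 1), (2, 32, 2), (2, 32, 8), (2, 36, 8), (2, 40, 3), (2, 42, 2), (2, 42, 8), (2, 44, 1), (2, 44, 8), (2, 46, 1), (2, 46, 8), (2, 56, 1), (2, 56,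
  8), (2, 72, 8), (2, 74, 1), (2, 74, 8), (2, 78, 8), (2, 84, 1), (2, 126, 1), (4, 4, 6), (4, 4, 8), (4, 16, 2), (4, 16, 8), (4, 24, 2), (4, 24, 8),
  (4, 40, 8), (4, 60, 2), (6, 30, 2), (6, 30, 8), (6, 72, 2), (8, 8, 4), (8, 8, 8), (10, 20, 4), (10, 20, 8), (12, 12, 4), (12, 12, 8), (14, 2, 7),
  (14, 2, 8), (18, 6, 6), (18, 6, 8), (24, 24, 4), (240, 0, 8)]

/-- the pairs (multiple of the order, number of roots) -/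
def tpE8 : List (ℕ × ℕ) :=
  [(1, 34), (1, 38), (1, 52), (1, 58), (1, 62), (1, 112), (1, 128), (2, 10), (2, 14), (2, 18), (2, 22), (2, 26), (2, 28), (2, 32), (2, 36), (2, 42),
  (2, 44), (2, 46), (2, 56), (2, 74), (2, 78), (2, 84), (2, 126), (4, 4), (4, 16), (4, 40), (4, 60), (6, 30), (6, 72), (8, 8), (8, 24), (10, 20), (12,
  12), (12, 24), (14, 2), (16, 0), (18, 6), (20, 0), (24, 0), (30, 0)]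

theorem eE8 : (∀ i, hr chevE8 8 i ≤ 7) ∧ tb chevE8 8 false = t0E8 ∧ tb chevE8 8 true = t1E8 ∧ dg (0 : Fin 8 → ℤ) = [8, 8, 8, 8, 8, 8, 8, 8] ∧
    dg (hz chevE8 8 false) = [8, 8, 8, 8, 8, 8, 8, 8] ∧ dg (hz chevE8 8 true) = [10, 11, 12, 14, 13, 12, 11, 10] ∧ chevE8.nroots = 240 := by decide +kernel

theorem redE8 : Red t3E8 tpE8 := by decide +kernel

end Cfsg.Agent.N2.Ex.Cb
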