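import Cfsg.Agent.N2.Ex.Cb.TabB

/-!
# N2, exceptional groups: the tables of classes of roots, `E₈`, part 10 (helper37)
-/

set_option autoImplicit false
set_option maxRecDepth 100000

namespace Cfsg.Agent.N2.Ex.Cb

open Cfsg Cfsg.Lie Cfsg.Agent.H931.KC

theorem c1E8_0000 : (masks 4).all (fun m => chk t1E8 [8, 8, 8, 8, 8, 8, 8, 8] [10, 11, 12, 14, 13, 12, 11, 10] true 240 8 t3E8 (0 :: 0 :: 0 :: 0 :: m)) = true := by
  decide +kernel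

theorem c1E8_0001 : (masks 4).all (fun m => chk t1E8 [8, 8, 8, 8, 8, 8, 8, 8] [10, 11, 12, 14, 13, 12, 11, 10] true 240 8 t3E8 (0 :: 0 :: 0 :: 1 :: m)) = true := by
  decide +kernel

theorem c1E8_000 : (masks 5).all (fun m => chk t1E8 [8, 8, 8, 8, 8, 8, 8, 8] [10, 11, 12, 14, 13, 12, 11, 10] true 240 8 t3E8 (0 :: 0 :: 0 :: m)) = true :=
  all_succ c1E8_0000 c1E8_0001

theorem c1E8_0010 : (masks 4).all (fun m => chk t1E8 [8, 8, 8, 8, 8, 8, 8, 8] [10, 11, 12, 14, 13, 12, 11, 10] true 240 8 t3E8 (0 :: 0 :: 1 :: 0 :: m)) = true := by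
  decide +kernel

theorem c1E8_0011 : (masks 4).all (fun m => chk t1E8 [8, 8, 8, 8, 8, 8, 8, 8] [10, 11, 12, 14, 13, 12, 11, 10] true 240 8 t3E8 (0 :: 0 :: 1 :: 1 :: m)) = true := by
  decide +kernel

theorem c1E8_001 : (masks 5).all (fun m => chk t1E8 [8, 8, 8, 8, 8, 8, 8, 8] [10, 11, 12, 14, 13, 12, 11, 10] true 240 8 t3E8 (0 :: 0 :: 1 :: m)) = true :=
  all_succ c1E8_0010 c1E8_0011

theorem c1E8_00 : (masks 6).all (fun m => chk t1E8 [8, 8, 8, 8, 8, 8, 8, 8] [10, 11, 12, 14, 13, 12, 11, 10] true 240 8 t3E8 (0 :: 0 :: m)) = true :=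
  all_succ c1E8_000 c1E8_001

theorem c1E8_0100 : (masks 4).all (fun m => chk t1E8 [8, 8, 8, 8, 8, 8, 8, 8] [10, 11, 12, 14, 13, 12, 11, 10] true 240 8 t3E8 (0 :: 1 :: 0 :: 0 :: m)) = true := by
  decide +kernel

theorem c1E8_0101 : (masks 4).all (fun m => chk t1E8 [8, 8, 8, 8, 8, 8, 8, 8] [10, 11, 12, 14, 13, 12, 11, 10] true 240 8 t3E8 (0 :: 1 :: 0 :: 1 :: m)) = true := by
  decide +kernel

theorem c1E8_010 : (masks 5).all (fun m => chk t1E8 [8, 8, 8, 8, 8, 8, 8, 8] [10, 11, 12, 14, 13, 12, 11, 10] true 240 8 t3E8 (0 :: 1 :: 0 :: m)) = true :=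
  all_succ c1E8_0100 c1E8_0101

theorem c1E8_0110 : (masks 4).all (fun m => chk t1E8 [8, 8, 8, 8, 8, 8, 8, 8] [10, 11, 12, 14, 13, 12, 11, 10] true 240 8 t3E8 (0 :: 1 :: 1 :: 0 :: m)) = true := by
  decide +kernel

theorem c1E8_0111 : (masks 4).all (fun m => chk t1E8 [8, 8, 8, 8, 8, 8, 8, 8] [10, 11, 12, 14, 13, 12, 11, 10] true 240 8 t3E8 (0 :: 1 :: 1 :: 1 :: m)) = true := by
  decide +kernel

theorem c1E8_011 : (masks 5).all (fun m => chk t1E8 [8, 8, 8, 8, 8, 8, 8, 8] [10, 11, 12, 14, 13, 12, 11, 10] true 240 8 t3E8 (0 :: 1 :: 1 :: m)) = true :=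
  all_succ c1E8_0110 c1E8_0111

theorem c1E8_01 : (masks 6).all (fun m => chk t1E8 [8, 8, 8, 8, 8, 8, 8, 8] [10, 11, 12, 14, 13, 12, 11, 10] true 240 8 t3E8 (0 :: 1 :: m)) = true :=
  all_succ c1E8_010 c1E8_011

theorem c1E8_0 : (masks 7).all (fun m => chk t1E8 [8, 8, 8, 8, 8, 8, 8, 8] [10, 11, 12, 14, 13, 12, 11, 10] true 240 8 t3E8 (0 :: m)) = true :=
  all_succ c1E8_00 c1E8_01

end Cfsg.Agent.N2.Ex.Cb
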