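import Cfsg.Agent.N2.Ex.Cb.TabB

/-!
# N2, exceptional groups: the tables of classes of roots, `E₈`, part 11 (helper37)
-/

set_option autoImplicit false
set_option maxRecDepth 100000

namespace Cfsg.Agent.N2.Ex.Cb

open Cfsg Cfsg.Lie Cfsg.Agent.H931.KC

theorem c1E8_1000 : (masks 4).all (fun m => chk t1E8 [8, 8, 8, 8, 8, 8, 8, 8] [10, 11, 12, 14, 13, 12, 11, 10] true 240 8 t3E8 (1 :: 0 :: 0 :: 0 :: m)) = true := by
  decide +kernel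

theorem c1E8_1001 : (masks 4).all (fun m => chk t1E8 [8, 8, 8, 8, 8, 8, 8, 8] [10, 11, 12, 14, 13, 12, 11, 10] true 240 8 t3E8 (1 :: 0 :: 0 :: 1 :: m)) = true := by
  decide +kernel

theorem c1E8_100 : (masks 5).all (fun m => chk t1E8 [8, 8, 8, 8, 8, 8, 8, 8] [10, 11, 12, 14, 13, 12, 11, 10] true 240 8 t3E8 (1 :: 0 :: 0 :: m)) = true :=
  all_succ c1E8_1000 c1E8_1001

theorem c1E8_1010 : (masks 4).all (fun m => chk t1E8 [8, 8, 8, 8, 8, 8, 8, 8] [10, 11, 12, 14, 13, 12, 11, 10] true 240 8 t3E8 (1 :: 0 :: 1 :: 0 :: m)) = true := by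
  decide +kernel

theorem c1E8_1011 : (masks 4).all (fun m => chk t1E8 [8, 8, 8, 8, 8, 8, 8, 8] [10, 11, 12, 14, 13, 12, 11, 10] true 240 8 t3E8 (1 :: 0 :: 1 :: 1 :: m)) = true := by
  decide +kernel

theorem c1E8_101 : (masks 5).all (fun m => chk t1E8 [8, 8, 8, 8, 8, 8, 8, 8] [10, 11, 12, 14, 13, 12, 11, 10] true 240 8 t3E8 (1 :: 0 :: 1 :: m)) = true :=
  all_succ c1E8_1010 c1E8_1011

theorem c1E8_10 : (masks 6).all (fun m => chk t1E8 [8, 8, 8, 8, 8, 8, 8, 8] [10, 11, 12, 14, 13, 12, 11, 10] true 240 8 t3E8 (1 :: 0 :: m)) = true :=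
  all_succ c1E8_100 c1E8_101

theorem c1E8_1100 : (masks 4).all (fun m => chk t1E8 [8, 8, 8, 8, 8, 8, 8, 8] [10, 11, 12, 14, 13, 12, 11, 10] true 240 8 t3E8 (1 :: 1 :: 0 :: 0 :: m)) = true := by
  decide +kernel

theorem c1E8_1101 : (masks 4).all (fun m => chk t1E8 [8, 8, 8, 8, 8, 8, 8, 8] [10, 11, 12, 14, 13, 12, 11, 10] true 240 8 t3E8 (1 :: 1 :: 0 :: 1 :: m)) = true := by
  decide +kernel

theorem c1E8_110 : (masks 5).all (fun m => chk t1E8 [8, 8, 8, 8, 8, 8, 8, 8] [10, 11, 12, 14, 13, 12, 11, 10] true 240 8 t3E8 (1 :: 1 :: 0 :: m)) = true :=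
  all_succ c1E8_1100 c1E8_1101

theorem c1E8_1110 : (masks 4).all (fun m => chk t1E8 [8, 8, 8, 8, 8, 8, 8, 8] [10, 11, 12, 14, 13, 12, 11, 10] true 240 8 t3E8 (1 :: 1 :: 1 :: 0 :: m)) = true := by
  decide +kernel

theorem c1E8_1111 : (masks 4).all (fun m => chk t1E8 [8, 8, 8, 8, 8, 8, 8, 8] [10, 11, 12, 14, 13, 12, 11, 10] true 240 8 t3E8 (1 :: 1 :: 1 :: 1 :: m)) = true := by
  decide +kernel

theorem c1E8_111 : (masks 5).all (fun m => chk t1E8 [8, 8, 8, 8, 8, 8, 8, 8] [10, 11, 12, 14, 13, 12, 11, 10] true 240 8 t3E8 (1 :: 1 :: 1 :: m)) = true :=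
  all_succ c1E8_1110 c1E8_1111

theorem c1E8_11 : (masks 6).all (fun m => chk t1E8 [8, 8, 8, 8, 8, 8, 8, 8] [10, 11, 12, 14, 13, 12, 11, 10] true 240 8 t3E8 (1 :: 1 :: m)) = true :=
  all_succ c1E8_110 c1E8_111

theorem c1E8_1 : (masks 7).all (fun m => chk t1E8 [8, 8, 8, 8, 8, 8, 8, 8] [10, 11, 12, 14, 13, 12, 11, 10] true 240 8 t3E8 (1 :: m)) = true :=
  all_succ c1E8_10 c1E8_11

end Cfsg.Agent.N2.Ex.Cb
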