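import Cfsg.Agent.N2.Ex.Cb.TabC00
import Cfsg.Agent.N2.Ex.Cb.TabC01
import Cfsg.Agent.N2.Ex.Cb.TabC10
import Cfsg.Agent.N2.Ex.Cb.TabC11

/-!
# N2, exceptional groups: the tables of classes of roots, `E₈`, assembly (helper37)
-/

set_option autoImplicit false
set_option maxRecDepth 100000

namespace Cfsg.Agent.N2.Ex.Cb

open Cfsg Cfsg.Lie Cfsg.Agent.H931.KC

theorem c0E8 : (masks 8).all (chk t0E8 [8, 8, 8, 8, 8, 8, 8, 8] [8, 8, 8, 8, 8, 8, 8, 8] false 240 8 t3E8) = true :=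
  all_succ c0E8_0 c0E8_1

theorem c1E8 : (masks 8).all (chk t1E8 [8, 8, 8, 8, 8, 8, 8, 8] [10, 11, 12, 14, 13, 12, 11, 10] true 240 8 t3E8) = true :=
  all_succ c1E8_0 c1E8_1

theorem okE8 : OK chevE8 8 t3E8 := ok_of eE8 c0E8 c1E8

end Cfsg.Agent.N2.Ex.Cb
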